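import Cfsg.Agent.Lib.KnownB.SpPres.Sys
import Cfsg.Agent.S2278
import Cfsg.Agent.S2279

/-!
# Monomial matrices and the stabiliser of the first coordinate
-/

set_option autoImplicit false
set_option linter.unusedSectionVars false

open Matrix CfsgLib.Perm.Quad.SL2 CfsgLib.SL2Pres CfsgLib.SLPres CfsgLib.Classical

namespace CfsgLib.SpPres

variable {F : Type*} [Field F] {m : ℕ}

/-- The sign carried by a coordinate of a monomial matrix. -/
def monSgn (σ : Equiv.Perm (Fin m)) (a : Fin m) : F :=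
  if a.val = 2 then ((Equiv.Perm.sign σ : ℤ) : F) else 1

theorem monSgn_sq (σ : Equiv.Perm (Fin m)) (a : Fin m) : (monSgn σ a : F) * monSgn σ a = 1 := by
  unfold monSgn
  split_ifs
  · rw [← Int.cast_mul, ← Units.val_mul, Int.units_mul_self, Units.val_one, Int.cast_one]
  · exact one_mul 1

theorem monSgn_lt {σ : Equiv.Perm (Fin m)} {a : Fin m} (ha : a.val < 2) : (monSgn σ a : F) = 1 := by
  rw [monSgn, if_neg]; omega

/-- A monomial matrix of determinant one. -/
def monMat (σ : Equiv.Perm (Fin m)) : Matrix (Fin m) (Fin m) F :=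
  fun a b => if a = σ b then monSgn σ b else 0

theorem monMat_mul_transpose (σ : Equiv.Perm (Fin m)) : monMat (F := F) σ * (monMat σ)ᵀ = 1 := by
  ext a b
  rw [Matrix.mul_apply, Finset.sum_eq_single (σ.symm a)]
  · by_cases hab : a = b
    · subst hab; simp [monMat, monSgn_sq]
    · simp [monMat, hab, Ne.symm hab]
  · intro c _ hc
    rw [monMat, if_neg (fun e => hc (by rw [e, Equiv.symm_apply_apply])), zero_mul]
  · simp

theorem monMat_transpose_mul (σ : Equiv.Perm (Fin m)) : (monMat (F := F) σ)ᵀ * monMat σ = 1 :=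
  mul_eq_one_comm.1 (monMat_mul_transpose σ)

theorem det_monMat (hm : 3 ≤ m) (σ : Equiv.Perm (Fin m)) : (monMat (F := F) σ).det = 1 := by
  have e : monMat (F := F) σ =
      (Matrix.diagonal (monSgn (F := F) σ) * σ.permMatrix F)ᵀ := by
    ext a b
    rw [Matrix.transpose_apply, Matrix.diagonal_mul]
    by_cases h : a = σ b
    · subst h; simp [monMat, Equiv.Perm.permMatrix, PEquiv.toMatrix_apply]
    · simp [monMat, Equiv.Perm.permMatrix, PEquiv.toMatrix_apply, h, Ne.symm h]
  rw [e, Matrix.det_transpose, Matrix.det_mul, Matrix.det_diagonal, Matrix.det_permutation,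
    Finset.prod_eq_single (⟨2, hm⟩ : Fin m)]
  · rw [monSgn, if_pos rfl, ← Int.cast_mul, ← Units.val_mul, Int.units_mul_self, Units.val_one, Int.cast_one]
  · intro b _ hb
    rw [monSgn, if_neg (fun e => hb (Fin.ext e))]
  · simp

/-- The monomial element. -/
def monSL (hm : 3 ≤ m) (σ : Equiv.Perm (Fin m)) : SpecialLinearGroup (Fin m) F :=
  ⟨monMat σ, det_monMat hm σ⟩

theorem monSL_inv (hm : 3 ≤ m) (σ : Equiv.Perm (Fin m)) : (monSL (F := F) hm σ)⁻¹.1 = (monMat σ)ᵀ := by
  have h := sl_inv_mul_val (monSL (F := F) hm σ)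
  calc (monSL (F := F) hm σ)⁻¹.1 = (monSL (F := F) hm σ)⁻¹.1 * (monMat σ * (monMat σ)ᵀ) := by
        rw [monMat_mul_transpose, Matrix.mul_one]
    _ = _ := by rw [← Matrix.mul_assoc]; exact (congrArg (· * (monMat σ)ᵀ) h).trans (Matrix.one_mul _)

theorem monSL_invT (hm : 3 ≤ m) (σ : Equiv.Perm (Fin m)) : invT (monSL (F := F) hm σ) = monSL hm σ :=
  Subtype.ext (by rw [invT_val, monSL_inv, Matrix.transpose_transpose]; rfl)

theorem congr'_monMat (σ : Equiv.Perm (Fin m)) (a b : Fin m) (t : F) :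
    congr' (monMat σ) (Matrix.single a b t) = Matrix.single (σ a) (σ b) (monSgn σ a * monSgn σ b * t) := by
  ext x y
  rw [congr', Matrix.mul_apply, Finset.sum_eq_single b]
  · rw [Matrix.mul_apply, Finset.sum_eq_single a]
    · simp only [monMat, Matrix.transpose_apply, Matrix.single_apply]
      by_cases hx : x = σ a <;> by_cases hy : y = σ b <;> simp [hx, hy] <;> grind
    · intro c _ hc; simp [Matrix.single_apply, Ne.symm hc]
    · simp
  · intro c _ hc
    rw [Matrix.mul_apply, Finset.sum_eq_zero]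
    · simp
    · intro d _; simp [Matrix.single_apply, Ne.symm hc]
  · simp

theorem monSL_conj_transvection (hm : 3 ≤ m) (σ : Equiv.Perm (Fin m)) {a b : Fin m} (h : a ≠ b) (t : F) :
    monSL hm σ * SpecialLinearGroup.transvection h t * (monSL hm σ)⁻¹ =
      SpecialLinearGroup.transvection (σ.injective.ne h) (monSgn σ a * monSgn σ b * t) := by
  apply Subtype.ext
  show monMat σ * Matrix.transvection a b t * (monSL hm σ)⁻¹.1 = Matrix.transvection _ _ _
  rw [monSL_inv, Matrix.transvection, Matrix.mul_add, Matrix.mul_one, Matrix.add_mul, monMat_mul_transpose]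
  show 1 + congr' (monMat σ) (Matrix.single a b t) = _
  rw [congr'_monMat]
  rfl

/-- The first coordinate is sent to another, row and column. -/
def Sends (A : Matrix (Fin m) (Fin m) F) (a k : Fin m) : Prop :=
  (∀ x, A x a = if x = k then 1 else 0) ∧ ∀ y, A k y = if y = a then 1 else 0

theorem sends_monMat (σ : Equiv.Perm (Fin m)) {a : Fin m} (ha : a.val < 2) :
    Sends (monMat (F := F) σ) a (σ a) := by
  refine ⟨fun x => ?_, fun y => ?_⟩
  · simp only [monMat, monSgn_lt ha]
  · by_cases hy : y = a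
    · subst hy; simp [monMat, monSgn_lt ha]
    · rw [monMat, if_neg (σ.injective.ne (Ne.symm hy)), if_neg hy]

theorem Sends.mul {A B : Matrix (Fin m) (Fin m) F} {a b c : Fin m} (hB : Sends B a b) (hA : Sends A b c) :
    Sends (A * B) a c := by
  refine ⟨fun x => ?_, fun y => ?_⟩
  · rw [Matrix.mul_apply, Finset.sum_eq_single b]
    · rw [hB.1, if_pos rfl, mul_one, hA.1]
    · intro d _ hd; rw [hB.1, if_neg hd, mul_zero]
    · simp
  · rw [Matrix.mul_apply, Finset.sum_eq_single b]
    · rw [hA.2, if_pos rfl, one_mul, hB.2]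
    · intro d _ hd; rw [hA.2, if_neg hd, zero_mul]
    · simp

theorem Sends.transpose {A : Matrix (Fin m) (Fin m) F} {a b : Fin m} (hA : Sends A a b) : Sends Aᵀ b a :=
  ⟨hA.2, hA.1⟩

/-- The embedding of the stabiliser of the first coordinate. -/
def stabEmb (k : ℕ) : SpecialLinearGroup (Fin k) F →* SpecialLinearGroup (Fin (k + 1)) F :=
  slEmbed Fin.succ (Fin.succ_injective k)

theorem stabEmb_val (k : ℕ) (B : SpecialLinearGroup (Fin k) F) (x y : Fin (k + 1)) :
    (stabEmb k B).1 x y = if hx : x = 0 then (if y = 0 then 1 else 0)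
      else if hy : y = 0 then 0 else B.1 (x.pred hx) (y.pred hy) := by
  rw [stabEmb, slEmbed_coe, Matrix.add_apply, Matrix.mul_apply]
  simp only [Matrix.mul_apply, incMat, Matrix.submatrix_apply, Matrix.transpose_apply, Matrix.one_apply, id]
  induction x using Fin.cases with
  | zero =>
    simp [eq_comm, Fin.succ_ne_zero]
  | succ x =>
    induction y using Fin.cases with
    | zero => simp [Fin.succ_ne_zero, (Fin.succ_ne_zero _).symm]
    | succ y =>
      simp only [Fin.succ_inj, dif_neg (Fin.succ_ne_zero _), Fin.pred_succ]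
      simp [Finset.sum_ite_eq, Finset.sum_ite_eq', Matrix.one_apply, mul_ite, ite_mul]

theorem exists_stabEmb {k : ℕ} (A : SpecialLinearGroup (Fin (k + 1)) F) (h : Sends A.1 0 0) :
    ∃ B : SpecialLinearGroup (Fin k) F, stabEmb k B = A := by
  have hdet : (A.1.submatrix Fin.succ Fin.succ).det = 1 := by
    have := A.2
    rw [Matrix.det_succ_row_zero, Finset.sum_eq_single 0] at this
    · simpa [h.2, Fin.succAbove_zero] using this
    · intro j _ hj; simp [h.2, hj]
    · simp
  let B : SpecialLinearGroup (Fin k) F := ⟨_, hdet⟩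
  refine ⟨B, Subtype.ext (Matrix.ext fun x y => ?_)⟩
  show (stabEmb k B).1 x y = A.1 x y
  rw [stabEmb_val]
  induction x using Fin.cases with
  | zero => simp [h.2]
  | succ x =>
    induction y using Fin.cases with
    | zero => simp [h.1]
    | succ y => simp [B]

theorem stabEmb_sends (k : ℕ) (B : SpecialLinearGroup (Fin k) F) : Sends (stabEmb k B).1 0 0 := by
  refine ⟨fun x => ?_, fun y => ?_⟩ <;> rw [stabEmb_val]
  · by_cases hx : x = 0 <;> simp [hx]
  · simp

variable [Fintype F]

theorem sl_two_generated {k : ℕ} (hk : 2 ≤ k) :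
    ∃ u v : SpecialLinearGroup (Fin k) F, Subgroup.closure {u, v} = ⊤ := by
  rcases (show k = 2 ∨ k = 3 ∨ 4 ≤ k by omega) with rfl | rfl | h4
  · obtain ⟨w, hw, -, a, hcl, -⟩ := exists_pair_pres (F := F)
    exact ⟨a, _, hcl⟩
  · obtain ⟨u, g, -, -, hug⟩ := Cfsg.Agent.S2278.result (F := F)
    exact ⟨u, _, hug⟩
  · obtain ⟨⟨u, v, -, -, huv⟩, -⟩ := Cfsg.Agent.S2279.result (F := F) k h4
    exact ⟨u, v, huv⟩

/-- Two elements generate the stabiliser of the first coordinate. -/
theorem stab_two_generated (hm : 3 ≤ m) :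
    ∃ s₁ s₂ : SpecialLinearGroup (Fin m) F,
      Sends s₁.1 ⟨0, by omega⟩ ⟨0, by omega⟩ ∧ Sends s₂.1 ⟨0, by omega⟩ ⟨0, by omega⟩ ∧
      ∀ A : SpecialLinearGroup (Fin m) F, Sends A.1 ⟨0, by omega⟩ ⟨0, by omega⟩ →
        A ∈ Subgroup.closure {s₁, s₂} := by
  obtain ⟨k, rfl⟩ : ∃ k, m = k + 1 := ⟨m - 1, by omega⟩
  obtain ⟨u, v, huv⟩ := sl_two_generated (F := F) (show 2 ≤ k by omega)
  refine ⟨stabEmb k u, stabEmb k v, stabEmb_sends k u, stabEmb_sends k v, fun A hA => ?_⟩
  obtain ⟨B, rfl⟩ := exists_stabEmb A hA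
  have := Subgroup.mem_map_of_mem (stabEmb k) (huv.ge (Subgroup.mem_top B))
  rwa [MonoidHom.map_closure, Set.image_pair] at this

end CfsgLib.SpPres
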