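import Cfsg.Agent.Lib.KnownB.SpPres.SymSys
import Cfsg.Agent.Lib.Classical.SLBasic

/-!
# The homomorphism from symmetric matrices and its equivariance
-/

set_option autoImplicit false
set_option linter.unusedSectionVars false

open Matrix CfsgLib.KnownA.StSL
open scoped commutatorElement

namespace CfsgLib.SpPres

variable {F : Type*} [Field F] {m : ℕ} {P : Type*} [Group P]

/-- The coordinates of symmetric matrices. -/
abbrev SymIdx (m : ℕ) := Fin m ⊕ {q : Fin m × Fin m // q.1 < q.2}

/-- The coordinates of a matrix, read on and above the diagonal. -/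
def symCoord (M : Matrix (Fin m) (Fin m) F) : SymIdx m → Multiplicative F
  | .inl k => Multiplicative.ofAdd (M k k)
  | .inr q => Multiplicative.ofAdd (M q.1.1 q.1.2)

theorem symCoord_add (M N : Matrix (Fin m) (Fin m) F) : symCoord (M + N) = symCoord M * symCoord N := by
  funext a; rcases a with k | q <;> rfl

variable {w ε : F} {y : Fin m → Fin m → F → P} {u : Fin m → F → P} {n g : Fin m → P}
  (S : SymSys w ε y u n g)

/-- The root homomorphism of a coordinate. -/
def SymSys.coordHom : SymIdx m → (Multiplicative F →* P)
  | .inl k => MonoidHom.mk' (fun t => u k t.toAdd) fun a b => by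
      show u k (a.toAdd + b.toAdd) = _
      exact S.u_add _ _ _
  | .inr q => MonoidHom.mk' (fun t => mixY ε y n q.1.1 q.1.2 t.toAdd) fun a b => by
      show mixY ε y n _ _ (a.toAdd + b.toAdd) = _
      exact S.p_add q.2.ne _ _

theorem SymSys.coordHom_comm :
    Pairwise fun a b : SymIdx m => ∀ s t, Commute (S.coordHom a s) (S.coordHom b t) := by
  intro a b hab s t
  rcases a with k | q <;> rcases b with l | r
  · exact S.uu k l _ _ fun e => hab (congrArg _ e)
  · exact S.up k r.2.ne _ _
  · exact (S.up l q.2.ne _ _).symm
  · exact S.pp q.2.ne r.2.ne _ _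

/-- The element of a symmetric matrix. -/
def SymSys.psi (M : Matrix (Fin m) (Fin m) F) : P :=
  MonoidHom.noncommPiCoprod S.coordHom S.coordHom_comm (symCoord M)

theorem SymSys.psi_add (M N : Matrix (Fin m) (Fin m) F) : S.psi (M + N) = S.psi M * S.psi N := by
  rw [psi, symCoord_add, map_mul]; rfl

theorem SymSys.psi_zero : S.psi 0 = 1 := by
  have := S.psi_add 0 0
  rwa [add_zero, left_eq_mul] at this

theorem SymSys.psi_comm (M N : Matrix (Fin m) (Fin m) F) : Commute (S.psi M) (S.psi N) := by
  show _ * _ = _ * _
  rw [← S.psi_add, ← S.psi_add, add_comm]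

theorem SymSys.psi_single_diag (k : Fin m) (c : F) : S.psi (Matrix.single k k c) = u k c := by
  have : symCoord (Matrix.single k k c) = Pi.mulSingle (Sum.inl k : SymIdx m) (Multiplicative.ofAdd c) := by
    funext a
    rcases a with l | q
    · by_cases h : l = k
      · subst h; simp [symCoord]
      · simp [symCoord, Matrix.single_apply, h, Ne.symm h]
    · have := q.2.ne
      simp only [symCoord, Pi.mulSingle_eq_of_ne (by simp : (Sum.inr q : SymIdx m) ≠ Sum.inl k)]
      rw [Matrix.single_apply, if_neg]
      · rfl
      · rintro ⟨rfl, h⟩; exact this h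
  rw [psi, this, MonoidHom.noncommPiCoprod_mulSingle]
  rfl

theorem SymSys.psi_single_lt {k l : Fin m} (h : k < l) (c : F) :
    S.psi (Matrix.single k l c) = mixY ε y n k l c := by
  have : symCoord (Matrix.single k l c) = Pi.mulSingle (Sum.inr ⟨(k, l), h⟩ : SymIdx m) (Multiplicative.ofAdd c) := by
    funext a
    rcases a with r | q
    · simp only [symCoord, Pi.mulSingle_eq_of_ne (by simp : (Sum.inl r : SymIdx m) ≠ Sum.inr ⟨(k, l), h⟩)]
      rw [Matrix.single_apply, if_neg]
      · rfl
      · rintro ⟨rfl, h'⟩; exact h.ne h'.symm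
    · by_cases hq : q = ⟨(k, l), h⟩
      · subst hq; simp [symCoord]
      · simp only [symCoord, Pi.mulSingle_eq_of_ne (show (Sum.inr q : SymIdx m) ≠ Sum.inr ⟨(k, l), h⟩ by simpa using hq)]
        rw [Matrix.single_apply, if_neg]
        · rfl
        · rintro ⟨h1, h2⟩; exact hq (Subtype.ext (Prod.ext h1.symm h2.symm))
  rw [psi, this, MonoidHom.noncommPiCoprod_mulSingle]
  rfl

theorem SymSys.psi_single_gt {k l : Fin m} (h : l < k) (c : F) : S.psi (Matrix.single k l c) = 1 := by
  have : symCoord (Matrix.single k l c) = 1 := by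
    funext a
    rcases a with r | q <;> simp only [symCoord, Pi.one_apply] <;> rw [Matrix.single_apply, if_neg]
    · rfl
    · rintro ⟨rfl, h'⟩; exact h.ne h'
    · rfl
    · rintro ⟨h1, h2⟩
      have := q.2
      rw [← h1, ← h2] at this
      exact absurd this h.not_gt
  rw [psi, this, map_one]

theorem SymSys.psi_pair {k l : Fin m} (h : k ≠ l) (c : F) :
    S.psi (Matrix.single k l c + Matrix.single l k c) = mixY ε y n k l c := by
  rw [S.psi_add]
  rcases h.lt_or_gt with h' | h'
  · rw [S.psi_single_lt h', S.psi_single_gt h', mul_one]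
  · rw [S.psi_single_gt h', S.psi_single_lt h', one_mul, S.symm h]

/-- Congruence. -/
def congr' (A M : Matrix (Fin m) (Fin m) F) : Matrix (Fin m) (Fin m) F := A * M * Aᵀ

theorem congr'_add (A M N : Matrix (Fin m) (Fin m) F) : congr' A (M + N) = congr' A M + congr' A N := by
  simp only [congr', Matrix.mul_add, Matrix.add_mul]

theorem congr'_single {a b : Fin m} (s : F) (i j : Fin m) (c : F) :
    congr' (Matrix.transvection a b s) (Matrix.single i j c) =
      Matrix.single i j c + (if b = i then Matrix.single a j (s * c) else 0) +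
        (if b = j then Matrix.single i a (c * s) else 0) +
          (if b = i ∧ b = j then Matrix.single a a (s * c * s) else 0) := by
  simp only [congr', Matrix.transvection, Matrix.transpose_add, Matrix.transpose_one, Matrix.transpose_single,
    add_mul, mul_add, one_mul, mul_one]
  by_cases hi : b = i <;> by_cases hj : b = j
  · subst hi; subst hj
    simp only [Matrix.single_mul_single_same, if_pos, and_self]
    abel
  · subst hi
    simp [Matrix.single_mul_single_same, Matrix.single_mul_single_of_ne, hj, Ne.symm hj]
  · subst hj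
    simp [Matrix.single_mul_single_same, Matrix.single_mul_single_of_ne, hi, Ne.symm hi]
  · simp [Matrix.single_mul_single_same, Matrix.single_mul_single_of_ne, hi, Ne.symm hi, hj, Ne.symm hj]

include S in
theorem SymSys.equi_diag [Finite F] {a b : Fin m} (h : a ≠ b) (s : F) (k : Fin m) (c : F) :
    y a b s * S.psi (Matrix.single k k c) * (y a b s)⁻¹ =
      S.psi (congr' (Matrix.transvection a b s) (Matrix.single k k c)) := by
  rw [congr'_single]
  by_cases hk : b = k
  · subst hk
    simp only [if_pos, and_self]
    rw [show Matrix.single b b c + Matrix.single a b (s * c) + Matrix.single b a (c * s) +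
        Matrix.single a a (s * c * s) = Matrix.single b b c + (Matrix.single b a (s * c) + Matrix.single a b (s * c)) +
          Matrix.single a a (s * c * s) by rw [mul_comm c s]; abel,
      S.psi_add, S.psi_add, S.psi_pair h.symm, S.psi_single_diag, S.psi_single_diag]
    have := S.formula h.symm s c
    rw [commutatorElement_def, mul_inv_eq_iff_eq_mul] at this
    rw [this, show s * c * s = s ^ 2 * c by ring,
      ← (((S.up b h.symm c (s * c))).mul_right (S.uu b a c (s ^ 2 * c) h.symm)).eq]
    simp only [mul_assoc]
  · simp only [if_neg hk, if_neg (fun e : b = k ∧ b = k => hk e.1), add_zero]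
    rw [S.psi_single_diag]
    exact mul_inv_eq_iff_eq_mul.2 (S.uy k a b c s h (Ne.symm hk)).eq.symm

include S in
theorem SymSys.equi_pair [Finite F] {a b : Fin m} (h : a ≠ b) (s : F) {k l : Fin m} (hkl : k ≠ l) (c : F) :
    y a b s * S.psi (Matrix.single k l c + Matrix.single l k c) * (y a b s)⁻¹ =
      S.psi (congr' (Matrix.transvection a b s) (Matrix.single k l c + Matrix.single l k c)) := by
  -- the general position
  have gen : ∀ i j, i ≠ j → b ≠ i → b ≠ j → j ≠ a → Commute (y a b s) (mixY ε y n i j c) := fun i j hij hbi hbj hja =>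
    ((S.ny j a b s h hja hbj.symm).symm.mul_right (S.pre.comm a b i j _ _ h hij hja.symm hbi)).mul_right
      (S.ny j a b s h hja hbj.symm).symm.inv_right
  -- one index is moved
  have one : ∀ j, j ≠ a → j ≠ b →
      y a b s * mixY ε y n b j c * (y a b s)⁻¹ = mixY ε y n a j (s * c) * mixY ε y n b j c := fun j hja hjb => by
    have e := S.pre.conj_right h hjb.symm hja.symm s (ε * c)
    have e2 := (S.ny j a b s h hja hjb).eq
    rw [mixY, mixY]
    calc y a b s * (n j * y b j (ε * c) * (n j)⁻¹) * (y a b s)⁻¹ =
        (y a b s * n j) * y b j (ε * c) * (y a b s * n j)⁻¹ := by group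
      _ = n j * (y a b s * y b j (ε * c) * (y a b s)⁻¹) * (n j)⁻¹ := by rw [← e2]; group
      _ = _ := by rw [e, show s * (ε * c) = ε * (s * c) by ring]; group
  rw [congr'_add, congr'_single, congr'_single, S.psi_pair hkl]
  by_cases hbk : b = k
  · subst hbk
    simp only [hkl, reduceIte, and_false, false_and, add_zero]
    by_cases hla : l = a
    · subst hla
      rw [show Matrix.single b l c + Matrix.single l l (s * c) + (Matrix.single l b c + Matrix.single l l (c * s)) =
          (Matrix.single l b c + Matrix.single b l c) + Matrix.single l l (2 * s * c) by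
        rw [show 2 * s * c = s * c + c * s by ring, Matrix.single_add]; abel,
        S.psi_add, S.psi_pair h, S.psi_single_diag, S.symm hkl]
      exact S.conj_p h s c
    · rw [show Matrix.single b l c + Matrix.single a l (s * c) + (Matrix.single l b c + Matrix.single l a (c * s)) =
          (Matrix.single a l (s * c) + Matrix.single l a (s * c)) + (Matrix.single b l c + Matrix.single l b c) by
        rw [mul_comm c s]; abel, S.psi_add, S.psi_pair (Ne.symm hla), S.psi_pair hkl]
      exact one l hla (Ne.symm hkl)
  by_cases hbl : b = l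
  · subst hbl
    simp only [hbk, reduceIte, and_false, false_and, add_zero]
    by_cases hka : k = a
    · subst hka
      rw [show Matrix.single k b c + Matrix.single k k (c * s) + (Matrix.single b k c + Matrix.single k k (s * c)) =
          (Matrix.single k b c + Matrix.single b k c) + Matrix.single k k (2 * s * c) by
        rw [show 2 * s * c = s * c + c * s by ring, Matrix.single_add]; abel,
        S.psi_add, S.psi_pair h, S.psi_single_diag]
      exact S.conj_p h s c
    · rw [show Matrix.single k b c + Matrix.single k a (c * s) + (Matrix.single b k c + Matrix.single a k (s * c)) =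
          (Matrix.single a k (s * c) + Matrix.single k a (s * c)) + (Matrix.single b k c + Matrix.single k b c) by
        rw [mul_comm c s]; abel, S.psi_add, S.psi_pair (Ne.symm hka), S.psi_pair hkl.symm, S.symm hkl]
      exact one k hka (Ne.symm hbk)
  simp only [if_neg hbk, if_neg hbl, if_neg (fun e : b = k ∧ b = l => hbk e.1),
    if_neg (fun e : b = l ∧ b = k => hbk e.2), add_zero]
  rw [S.psi_pair hkl]
  refine mul_inv_eq_iff_eq_mul.2 ?_
  by_cases hla : l = a
  · rw [S.symm hkl]; exact (gen l k hkl.symm hbl hbk (fun e => hkl (e.trans hla.symm))).eq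
  · exact (gen k l hkl hbk hbl hla).eq

/-- The symmetric matrix with given coordinates. -/
def symOf (v : SymIdx m → Multiplicative F) : Matrix (Fin m) (Fin m) F := fun i j =>
  if hij : i < j then (v (.inr ⟨(i, j), hij⟩)).toAdd
  else if hji : j < i then (v (.inr ⟨(j, i), hji⟩)).toAdd else (v (.inl i)).toAdd

theorem symOf_mul (v v' : SymIdx m → Multiplicative F) : symOf (v * v') = symOf v + symOf v' := by
  refine Matrix.ext fun i j => ?_
  show _ = symOf v i j + symOf v' i j
  simp only [symOf]
  split_ifs <;> rfl

/-- Induction over symmetric matrices. -/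
theorem sym_induction {p : Matrix (Fin m) (Fin m) F → Prop} (h0 : p 0) (hadd : ∀ M N, p M → p N → p (M + N))
    (hd : ∀ k c, p (Matrix.single k k c))
    (hp : ∀ k l, k ≠ l → ∀ c, p (Matrix.single k l c + Matrix.single l k c))
    {M : Matrix (Fin m) (Fin m) F} (hM : M.IsSymm) : p M := by
  classical
  have key : ∀ v : SymIdx m → Multiplicative F, p (symOf v) := by
    intro v
    rw [← Finset.univ_prod_mulSingle v]
    refine Finset.prod_induction _ (fun v => p (symOf v)) (fun v v' h h' => by rw [symOf_mul]; exact hadd _ _ h h') ?_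
      fun q _ => ?_
    · convert h0
      ext i j
      simp only [symOf]
      split_ifs <;> rfl
    rcases q with k | ⟨⟨k, l⟩, hkl⟩
    · have : symOf (Pi.mulSingle (Sum.inl k) (v (Sum.inl k))) = Matrix.single k k (v (Sum.inl k)).toAdd := by
        ext i j
        simp only [symOf, Matrix.single_apply]
        by_cases hq : k = i ∧ k = j
        · obtain ⟨rfl, rfl⟩ := hq; simp
        rw [if_neg hq]
        by_cases hij : i < j
        · rw [dif_pos hij, Pi.mulSingle_eq_of_ne (by simp)]; rfl
        rw [dif_neg hij]
        by_cases hji : j < i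
        · rw [dif_pos hji, Pi.mulSingle_eq_of_ne (by simp)]; rfl
        obtain rfl : i = j := le_antisymm (not_lt.1 hji) (not_lt.1 hij)
        rw [dif_neg hji, Pi.mulSingle_eq_of_ne (fun e => hq ⟨(Sum.inl.inj e).symm, (Sum.inl.inj e).symm⟩)]
        rfl
      rw [this]; exact hd k _
    · set c := (v (Sum.inr ⟨(k, l), hkl⟩)).toAdd
      have : symOf (Pi.mulSingle (Sum.inr ⟨(k, l), hkl⟩) (v (Sum.inr ⟨(k, l), hkl⟩))) =
          Matrix.single k l c + Matrix.single l k c := by
        ext i j
        simp only [symOf, Matrix.add_apply, Matrix.single_apply]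
        by_cases hij : i < j
        · rw [dif_pos hij, Pi.mulSingle_apply, if_neg (fun e : l = i ∧ k = j => hij.not_gt (e.1 ▸ e.2 ▸ hkl)), add_zero]
          by_cases hq : k = i ∧ l = j
          · rw [if_pos hq, if_pos]
            obtain ⟨rfl, rfl⟩ := hq; rfl
          · rw [if_neg hq, if_neg]; · rfl
            intro e; simp only [Sum.inr.injEq, Subtype.mk.injEq, Prod.mk.injEq] at e
            exact hq ⟨e.1.symm, e.2.symm⟩
        rw [dif_neg hij]
        by_cases hji : j < i
        · rw [dif_pos hji, Pi.mulSingle_apply, if_neg (fun e : k = i ∧ l = j => hji.not_gt (e.1 ▸ e.2 ▸ hkl)), zero_add]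
          by_cases hq : l = i ∧ k = j
          · rw [if_pos hq, if_pos]
            obtain ⟨rfl, rfl⟩ := hq; rfl
          · rw [if_neg hq, if_neg]; · rfl
            intro e; simp only [Sum.inr.injEq, Subtype.mk.injEq, Prod.mk.injEq] at e
            exact hq ⟨e.2.symm, e.1.symm⟩
        · obtain rfl : i = j := le_antisymm (not_lt.1 hji) (not_lt.1 hij)
          rw [dif_neg hji, Pi.mulSingle_eq_of_ne (by simp), if_neg, if_neg]
          · simp
          · rintro ⟨h1, h2⟩; exact hkl.ne (h2.trans h1.symm)
          · rintro ⟨h1, h2⟩; exact hkl.ne (h1.trans h2.symm)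
      rw [this]; exact hp k l hkl.ne c
  have hv : symOf (symCoord M) = M := by
    ext i j
    simp only [symOf]
    split_ifs with h1 h2
    · rfl
    · exact hM.apply i j
    · obtain rfl : i = j := le_antisymm (not_lt.1 h2) (not_lt.1 h1)
      rfl
  exact hv ▸ key (symCoord M)

include S in
/-- Root elements act by congruence. -/
theorem SymSys.equi [Finite F] {a b : Fin m} (h : a ≠ b) (s : F) {M : Matrix (Fin m) (Fin m) F} (hM : M.IsSymm) :
    y a b s * S.psi M * (y a b s)⁻¹ = S.psi (congr' (Matrix.transvection a b s) M) := by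
  refine sym_induction (p := fun M => y a b s * S.psi M * (y a b s)⁻¹ = S.psi (congr' (Matrix.transvection a b s) M))
    ?_ (fun M N hM hN => ?_) (S.equi_diag h s) (fun k l hkl c => S.equi_pair h s hkl c) hM
  · simp [congr', S.psi_zero]
  · rw [congr'_add, S.psi_add, S.psi_add, ← hM, ← hN]; group

include S in
/-- A homomorphism from the special linear group extending the root elements acts by congruence. -/
theorem SymSys.equi_sl [Finite F] (φ : Matrix.SpecialLinearGroup (Fin m) F →* P)
    (hφ : ∀ (a b : Fin m) (h : a ≠ b) (t : F), φ (SpecialLinearGroup.transvection h t) = y a b t)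
    (A : Matrix.SpecialLinearGroup (Fin m) F) :
    ∀ M : Matrix (Fin m) (Fin m) F, M.IsSymm → φ A * S.psi M * (φ A)⁻¹ = S.psi (congr' A.1 M) := by
  have symm' : ∀ (B M : Matrix (Fin m) (Fin m) F), M.IsSymm → (congr' B M).IsSymm := fun B M hM => by
    simp only [congr', Matrix.IsSymm, Matrix.transpose_mul, Matrix.transpose_transpose, hM.eq, Matrix.mul_assoc]
  let H : Subgroup (Matrix.SpecialLinearGroup (Fin m) F) :=
    { carrier := {A | ∀ M : Matrix (Fin m) (Fin m) F, M.IsSymm → φ A * S.psi M * (φ A)⁻¹ = S.psi (congr' A.1 M)}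
      one_mem' := fun M _ => by simp [congr']
      mul_mem' := fun {A B} hA hB M hM => by
        rw [map_mul, show φ A * φ B * S.psi M * (φ A * φ B)⁻¹ = φ A * (φ B * S.psi M * (φ B)⁻¹) * (φ A)⁻¹ by group,
          hB M hM, hA _ (symm' _ _ hM)]
        simp only [congr', Matrix.SpecialLinearGroup.coe_mul, Matrix.transpose_mul, Matrix.mul_assoc]
      inv_mem' := fun {A} hA M hM => by
        have := hA _ (symm' A⁻¹.1 M hM)
        have e : congr' A.1 (congr' A⁻¹.1 M) = M := by
          have h1 : A.1 * A⁻¹.1 = 1 := by rw [← Matrix.SpecialLinearGroup.coe_mul, mul_inv_cancel]; rfl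
          calc _ = (A.1 * A⁻¹.1) * M * (A.1 * A⁻¹.1)ᵀ := by
                simp only [congr', Matrix.transpose_mul, Matrix.mul_assoc]
            _ = M := by rw [h1, Matrix.transpose_one, Matrix.one_mul, Matrix.mul_one]
        rw [e] at this
        rw [map_inv, ← this]
        group }
  have : H = ⊤ := CfsgLib.Classical.sl_subgroup_eq_top _ fun i j h c M hM => by
    show φ (SpecialLinearGroup.transvection h c) * _ * _ = _
    rw [hφ, S.equi h c hM]
    rfl
  exact this.ge (Subgroup.mem_top A)

end CfsgLib.SpPres
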