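import Cfsg.Agent.Lib.KnownB.SLPres.Target
import Cfsg.Agent.Lib.Classical.SympMatrix
import Cfsg.Agent.Lib.KnownB.SpPres.SymHom

/-!
# The root elements inside the symplectic matrices
-/

set_option autoImplicit false
set_option linter.unusedSectionVars false

open Matrix CfsgLib.Perm.Quad.SL2 CfsgLib.SL2Pres CfsgLib.SLPres

namespace CfsgLib.SpPres

variable {F : Type*} [Field F] {m : ℕ}

theorem mem_symplectic_blocks {A B C D : Matrix (Fin m) (Fin m) F} (h1 : A * Bᵀ = B * Aᵀ) (h2 : C * Dᵀ = D * Cᵀ)
    (h3 : A * Dᵀ - B * Cᵀ = 1) : fromBlocks A B C D ∈ symplecticGroup (Fin m) F := by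
  rw [SymplecticGroup.mem_iff, Matrix.fromBlocks_transpose, Matrix.J, Matrix.fromBlocks_multiply,
    Matrix.fromBlocks_multiply]
  have h4 := congrArg Matrix.transpose h3
  simp only [Matrix.transpose_sub, Matrix.transpose_mul, Matrix.transpose_transpose, Matrix.transpose_one] at h4
  simp only [Matrix.zero_mul, Matrix.mul_zero, add_zero, zero_add, Matrix.mul_neg, Matrix.neg_mul, Matrix.mul_one]
  congr 1
  · rw [h1]; abel
  · rw [← h3]; abel
  · rw [← h4]; abel
  · rw [h2]; abel

/-- The long root subgroup pair at a coordinate. -/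
def embFun (i : Fin m) (z : SL F) : Matrix.symplecticGroup (Fin m) F :=
  ⟨fromBlocks (diagonal (Function.update 1 i (z.1 0 0))) (diagonal (Pi.single i (z.1 0 1)))
      (diagonal (Pi.single i (z.1 1 0))) (diagonal (Function.update 1 i (z.1 1 1))), by
    refine mem_symplectic_blocks ?_ ?_ ?_ <;>
      simp only [diagonal_transpose, diagonal_mul_diagonal, ← diagonal_one, diagonal_sub, diagonal_eq_diagonal_iff]
    · intro k; ring
    · intro k; ring
    · intro k
      by_cases hk : k = i
      · subst hk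
        simpa using det2 z
      · simp [hk]⟩

/-- The long root subgroup pair at a coordinate, as a homomorphism. -/
def mEmb (i : Fin m) : SL F →* Matrix.symplecticGroup (Fin m) F :=
  MonoidHom.mk' (embFun i) fun a b => by
    apply Subtype.ext
    show fromBlocks _ _ _ _ = fromBlocks _ _ _ _ * fromBlocks _ _ _ _
    rw [fromBlocks_multiply]
    simp only [diagonal_mul_diagonal, diagonal_add]
    congr 1 <;> (congr 1; funext k; by_cases hk : k = i) <;>
      first
        | (subst hk; simp [mul_apply2]; done)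
        | simp [hk]

theorem mEmb_val (i : Fin m) (z : SL F) : (mEmb i z).1 =
    fromBlocks (diagonal (Function.update 1 i (z.1 0 0))) (diagonal (Pi.single i (z.1 0 1)))
      (diagonal (Pi.single i (z.1 1 0))) (diagonal (Function.update 1 i (z.1 1 1))) := rfl

/-- Upper block unipotent elements; only used for symmetric blocks. -/
def upBlk (M : Matrix (Fin m) (Fin m) F) : Matrix (Fin m ⊕ Fin m) (Fin m ⊕ Fin m) F := fromBlocks 1 M 0 1

/-- Lower block unipotent elements. -/
def lowBlk (M : Matrix (Fin m) (Fin m) F) : Matrix (Fin m ⊕ Fin m) (Fin m ⊕ Fin m) F := fromBlocks 1 0 M 1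

theorem upBlk_add (M N : Matrix (Fin m) (Fin m) F) : upBlk (M + N) = upBlk M * upBlk N := by
  simp [upBlk, fromBlocks_multiply, add_comm]

theorem lowBlk_add (M N : Matrix (Fin m) (Fin m) F) : lowBlk (M + N) = lowBlk M * lowBlk N := by
  simp [lowBlk, fromBlocks_multiply]

theorem mEmb_up (i : Fin m) (t : F) : (mEmb i (up t)).1 = upBlk (Matrix.single i i t) := by
  rw [mEmb_val, upBlk]
  simp [up_val, diagonal_one, diagonal_single]

theorem mEmb_low (i : Fin m) (t : F) : (mEmb i (low t)).1 = lowBlk (Matrix.single i i t) := by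
  rw [mEmb_val, lowBlk]
  simp [low_val, diagonal_one, diagonal_single]

theorem mEmb_dg (i : Fin m) (c : F) (hc : c ≠ 0) : (mEmb i (dg c hc)).1 =
    fromBlocks (diagonal (Function.update 1 i c)) 0 0 (diagonal (Function.update 1 i c⁻¹)) := by
  rw [mEmb_val]; simp [dg_val]

theorem mEmb_injective (i : Fin m) : Function.Injective (mEmb (F := F) i) := fun a b h => by
  have := congrArg Subtype.val h
  rw [mEmb_val, mEmb_val, fromBlocks_inj] at this
  obtain ⟨h1, h2, h3, h4⟩ := this
  apply ext2
  · simpa using congrFun (diagonal_injective h1) i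
  · simpa using congrFun (diagonal_injective h2) i
  · simpa using congrFun (diagonal_injective h3) i
  · simpa using congrFun (diagonal_injective h4) i

theorem sl_mul_inv_val (A : SpecialLinearGroup (Fin m) F) : A.1 * A⁻¹.1 = 1 :=
  congrArg Subtype.val (mul_inv_cancel A)

theorem sl_inv_mul_val (A : SpecialLinearGroup (Fin m) F) : A⁻¹.1 * A.1 = 1 :=
  congrArg Subtype.val (inv_mul_cancel A)

/-- The Levi subgroup. -/
def leviHom : SpecialLinearGroup (Fin m) F →* Matrix.symplecticGroup (Fin m) F :=
  MonoidHom.mk' (fun A => ⟨fromBlocks A.1 0 0 A⁻¹.1ᵀ, mem_symplectic_blocks (by simp) (by simp)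
    (by simp [sl_mul_inv_val, ← Matrix.SpecialLinearGroup.coe_inv])⟩) fun A B => by
    apply Subtype.ext
    show fromBlocks _ _ _ _ = fromBlocks _ _ _ _ * fromBlocks _ _ _ _
    rw [fromBlocks_multiply, _root_.mul_inv_rev, show (A * B).1 = A.1 * B.1 from rfl,
      show (B⁻¹ * A⁻¹).1 = B⁻¹.1 * A⁻¹.1 from rfl, transpose_mul]
    simp only [Matrix.mul_zero, Matrix.zero_mul, add_zero, zero_add]

theorem leviHom_val (A : SpecialLinearGroup (Fin m) F) : (leviHom A).1 = fromBlocks A.1 0 0 A⁻¹.1ᵀ := rfl

theorem transvection_inv_val {i j : Fin m} (h : i ≠ j) (t : F) :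
    (SpecialLinearGroup.transvection h t)⁻¹.1 = Matrix.transvection i j (-t) := by
  have : (SpecialLinearGroup.transvection h t)⁻¹ = SpecialLinearGroup.transvection h (-t) := by
    refine inv_eq_of_mul_eq_one_right (Subtype.ext ?_)
    show Matrix.transvection i j t * Matrix.transvection i j (-t) = 1
    rw [Matrix.transvection_mul_transvection_same _ _ h, add_neg_cancel, Matrix.transvection_zero]
  rw [this]; rfl

theorem leviHom_transvection {i j : Fin m} (h : i ≠ j) (t : F) :
    (leviHom (SpecialLinearGroup.transvection h t)).1 =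
      fromBlocks (Matrix.transvection i j t) 0 0 (Matrix.transvection j i (-t)) := by
  rw [leviHom_val, transvection_inv_val]
  simp only [Matrix.transvection, transpose_add, transpose_one, transpose_single]
  rfl

/-- The matrix of an upper mixed root element. -/
theorem mix_up_val {i j : Fin m} (h : i ≠ j) (t : F) :
    (mEmb j jSL * leviHom (SpecialLinearGroup.transvection h (-t)) * (mEmb j jSL)⁻¹).1 =
      upBlk (Matrix.single i j t + Matrix.single j i t) := by
  have e : mEmb j jSL * leviHom (SpecialLinearGroup.transvection h (-t)) =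
      (⟨upBlk (Matrix.single i j t + Matrix.single j i t),
        mem_symplectic_blocks (by simp [add_comm]) (by simp) (by simp)⟩ : symplecticGroup (Fin m) F) * mEmb j jSL := by
    apply Subtype.ext
    show (mEmb j jSL).1 * (leviHom _).1 = upBlk _ * (mEmb j jSL).1
    simp only [mEmb_val, leviHom_transvection, upBlk, fromBlocks_multiply, jSL_coe, Matrix.transvection,
      neg_neg]
    congr 1 <;> ext a b <;>
      simp [Matrix.mul_add, Matrix.add_mul, Matrix.diagonal_apply, Matrix.single_apply, Matrix.one_apply,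
        Function.update_apply, Pi.single_apply] <;>
      (try split_ifs) <;> intros <;> subst_vars <;> simp_all
  rw [e, mul_inv_cancel_right]

/-- The matrix of a lower mixed root element. -/
theorem mix_low_val {i j : Fin m} (h : i ≠ j) (t : F) :
    (mEmb j jSL * leviHom (SpecialLinearGroup.transvection h.symm (-t)) * (mEmb j jSL)⁻¹).1 =
      lowBlk (Matrix.single i j t + Matrix.single j i t) := by
  have e : mEmb j jSL * leviHom (SpecialLinearGroup.transvection h.symm (-t)) =
      (⟨lowBlk (Matrix.single i j t + Matrix.single j i t),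
        mem_symplectic_blocks (by simp) (by simp [add_comm]) (by simp)⟩ : symplecticGroup (Fin m) F) * mEmb j jSL := by
    apply Subtype.ext
    show (mEmb j jSL).1 * (leviHom _).1 = lowBlk _ * (mEmb j jSL).1
    simp only [mEmb_val, leviHom_transvection, lowBlk, fromBlocks_multiply, jSL_coe, Matrix.transvection,
      neg_neg]
    congr 1 <;> ext a b <;>
      simp [Matrix.mul_add, Matrix.add_mul, Matrix.diagonal_apply, Matrix.single_apply, Matrix.one_apply,
        Function.update_apply, Pi.single_apply] <;>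
      (try split_ifs) <;> intros <;> subst_vars <;> simp_all
  rw [e, mul_inv_cancel_right]

theorem exists_sym_mulVec {x : Fin m → F} (hx : x ≠ 0) (v : Fin m → F) :
    ∃ M : Matrix (Fin m) (Fin m) F, M.IsSymm ∧ M *ᵥ x = v := by
  obtain ⟨k, hk⟩ := Function.ne_iff.1 hx
  set z : Fin m → F := Pi.single k (x k)⁻¹
  have hz : z ⬝ᵥ x = 1 := by simp [z, inv_mul_cancel₀ hk]
  refine ⟨vecMulVec v z + vecMulVec z v - (v ⬝ᵥ x) • vecMulVec z z, ?_, ?_⟩
  · ext i j; simp [vecMulVec_apply, mul_comm]; ring
  · simp [Matrix.add_mulVec, Matrix.sub_mulVec, Matrix.smul_mulVec, Matrix.vecMulVec_mulVec, hz, smul_smul]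

/-- A subgroup containing both unipotent radicals is everything. -/
theorem sp_eq_top [Fintype F] [DecidableEq F] (hm : 1 ≤ m) {H : Subgroup (Matrix.symplecticGroup (Fin m) F)}
    (hup : ∀ M : Matrix (Fin m) (Fin m) F, M.IsSymm → ∃ g ∈ H, (g : symplecticGroup (Fin m) F).1 = upBlk M)
    (hlow : ∀ M : Matrix (Fin m) (Fin m) F, M.IsSymm → ∃ g ∈ H, (g : symplecticGroup (Fin m) F).1 = lowBlk M) :
    H = ⊤ := by
  let k : Fin m := ⟨0, hm⟩
  let e : Fin m → F := Pi.single k 1
  have he : e ≠ 0 := by simp [e]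
  let R : (Fin m ⊕ Fin m → F) → Prop := fun v => ∃ g ∈ H, (g : symplecticGroup (Fin m) F).1 *ᵥ Sum.elim e 0 = v
  have hU : ∀ M : Matrix (Fin m) (Fin m) F, M.IsSymm → ∀ x y, R (Sum.elim x y) → R (Sum.elim (x + M *ᵥ y) y) :=
    fun M hM x y ⟨g, hg, hgv⟩ => by
      obtain ⟨u, hu, huv⟩ := hup M hM
      refine ⟨u * g, mul_mem hu hg, ?_⟩
      show (u.1 * g.1) *ᵥ _ = _
      rw [← Matrix.mulVec_mulVec, hgv, huv, upBlk, fromBlocks_mulVec]
      simp
  have hL : ∀ M : Matrix (Fin m) (Fin m) F, M.IsSymm → ∀ x y, R (Sum.elim x y) → R (Sum.elim x (y + M *ᵥ x)) :=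
    fun M hM x y ⟨g, hg, hgv⟩ => by
      obtain ⟨u, hu, huv⟩ := hlow M hM
      refine ⟨u * g, mul_mem hu hg, ?_⟩
      show (u.1 * g.1) *ᵥ _ = _
      rw [← Matrix.mulVec_mulVec, hgv, huv, lowBlk, fromBlocks_mulVec]
      simp [add_comm]
  have r0 : R (Sum.elim e 0) := ⟨1, one_mem _, by simp⟩
  have r1 : R (Sum.elim e e) := by
    obtain ⟨M, hM, hMe⟩ := exists_sym_mulVec he e
    simpa [hMe] using hL M hM _ _ r0
  have r2 : ∀ x, x ≠ 0 → ∀ y, R (Sum.elim x y) := fun x hx y => by
    obtain ⟨M, hM, hMe⟩ := exists_sym_mulVec he (x - e)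
    have h := hU M hM _ _ r1
    rw [hMe, add_sub_cancel] at h
    obtain ⟨M', hM', hM'e⟩ := exists_sym_mulVec hx (y - e)
    have h' := hL M' hM' _ _ h
    rwa [hM'e, add_sub_cancel] at h'
  have rall : ∀ v, v ≠ 0 → R v := fun v hv => by
    obtain ⟨x, y, rfl⟩ : ∃ x y, v = Sum.elim x y := ⟨v ∘ Sum.inl, v ∘ Sum.inr, (Sum.elim_comp_inl_inr v).symm⟩
    by_cases hx : x = 0
    · subst hx
      have hy : y ≠ 0 := fun h => hv (by rw [h]; funext a; rcases a with a | a <;> rfl)
      obtain ⟨M, hM, hMy⟩ := exists_sym_mulVec hy (-e)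
      have := hU M hM e y (r2 e he y)
      rwa [hMy, add_neg_cancel] at this
    · exact r2 x hx y
  rw [eq_top_iff, ← CfsgLib.Classical.closure_sympTransvection F m, Subgroup.closure_le]
  rintro A ⟨v, c, hA⟩
  by_cases hv : v = 0
  · have : A = 1 := by
      refine Subtype.ext (hA.trans (Matrix.ext_of_mulVec_single fun l => ?_))
      rw [CfsgLib.Classical.sympTransvection_mulVec, CfsgLib.Classical.tv_apply, hv]
      simp only [smul_zero, add_zero, Submonoid.coe_one, OneMemClass.coe_one, Matrix.one_mulVec]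
    rw [this]; exact one_mem H
  obtain ⟨g, hg, hgv⟩ := rall v hv
  obtain ⟨u, hu, huv⟩ := hup (Matrix.single k k c) (by simp [Matrix.IsSymm])
  have : A = g * u * g⁻¹ := by
    rw [eq_mul_inv_iff_mul_eq]
    refine Subtype.ext (Matrix.ext_of_mulVec_single fun l => ?_)
    show (A.1 * g.1) *ᵥ _ = (g.1 * u.1) *ᵥ _
    have hu' : ∀ x, u.1 *ᵥ x = x + (c * CfsgLib.Classical.sympBil F m x (Sum.elim e 0)) • Sum.elim e 0 := fun x => by
      rw [huv, upBlk, fromBlocks_mulVec, CfsgLib.Classical.sympBil_apply, CfsgLib.Classical.sympForm_eq]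
      funext j
      rcases j with j | j <;>
        simp [e, Matrix.single_mulVec, Pi.single_apply, Function.comp_def, Function.update_apply] <;>
        split_ifs <;> simp_all
    rw [← Matrix.mulVec_mulVec, ← Matrix.mulVec_mulVec, hA, CfsgLib.Classical.sympTransvection_mulVec,
      CfsgLib.Classical.tv_apply, hu', Matrix.mulVec_add, Matrix.mulVec_smul, hgv, ← hgv,
      CfsgLib.Classical.sympBil_apply, CfsgLib.Classical.sympBil_apply,
      (CfsgLib.Classical.mem_symplecticGroup_iff_preserves m).1 g.2]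
  rw [this]
  exact mul_mem (mul_mem hg hu) (inv_mem hg)

end CfsgLib.SpPres
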