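import Cfsg.Agent.Lib.KnownB.SpPres.RootGroups

/-!
# The simple rank one subgroups: their action on root groups and torus
-/

set_option autoImplicit false
set_option linter.unusedSectionVars false

open Matrix CfsgLib.Perm.Quad.SL2 CfsgLib.SL2Pres CfsgLib.SLPres CfsgLib.Classical CfsgLib.KnownA.StSL
open scoped commutatorElement

namespace CfsgLib.SpPres

variable {F : Type*} [Field F] {m : ℕ} {P : Type*} [Group P]
variable {w : F} {hw : w ≠ 0} {M : Fin m → SL F →* P} {φ : SpecialLinearGroup (Fin m) F →* P}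

theorem next_ne {k : Fin m} (h : k.val + 1 < m) : k ≠ ⟨k.val + 1, h⟩ := by simp [Fin.ext_iff]

/-- The simple rank one subgroups. -/
def simpleL (M : Fin m → SL F →* P) (φ : SpecialLinearGroup (Fin m) F →* P) (k : Fin m) : SL F →* P :=
  if h : k.val + 1 < m then φ.comp (emb2 k ⟨k.val + 1, h⟩) else M k

theorem jj_dg : (jSL : SL F) * jSL = dg (-1) (neg_ne_zero.2 one_ne_zero) := by
  apply ext2 <;> simp [mul_apply2, jSL_coe, dg_val]

theorem jSL_up (t : F) : (jSL : SL F) * up t * jSL⁻¹ = low (-t) := by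
  rw [mul_inv_eq_iff_eq_mul]
  apply ext2 <;> simp [mul_apply2, jSL_coe, up_val, low_val]

theorem jSL_low (t : F) : (jSL : SL F) * low t * jSL⁻¹ = up (-t) := by
  rw [mul_inv_eq_iff_eq_mul]
  apply ext2 <;> simp [mul_apply2, jSL_coe, up_val, low_val]

theorem jSL_dg (c : F) (hc : c ≠ 0) : (jSL : SL F) * dg c hc * jSL⁻¹ = dg c⁻¹ (inv_ne_zero hc) := by
  rw [mul_inv_eq_iff_eq_mul]
  apply ext2 <;> simp [mul_apply2, jSL_coe, dg_val]

variable (S : SpSys hw M φ)
include S

theorem SpSys.simple_up (k : Fin m) (t : F) : simpleL M φ k (up t) = S.x (rootSimple k) t := by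
  unfold simpleL rootSimple
  split_ifs with h
  · rw [MonoidHom.comp_apply, emb2_up (next_ne h), S.x_mk]
    simp only [SpSys.rX]
    rw [yTr_eq φ (next_ne h)]
  · rw [S.x_mk]
    simp only [SpSys.rX]
    rw [pairM, if_pos rfl, SymSys.psi_single_diag]

theorem SpSys.simple_low (k : Fin m) (t : F) : simpleL M φ k (low t) = S.x (rootNeg (rootSimple k)) t := by
  unfold simpleL rootSimple
  split_ifs with h
  · rw [MonoidHom.comp_apply, emb2_low (next_ne h), rootNeg_mk, S.x_mk]
    simp only [flipB, Bool.not_true, Bool.not_false, SpSys.rX]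
    rw [yTr_eq φ (next_ne h).symm]
  · rw [rootNeg_mk, S.x_mk]
    simp only [flipB, Bool.not_true, SpSys.rX]
    rw [pairM, if_pos rfl, SymSys.psi_single_diag]

theorem SpSys.simple_dg (k : Fin m) (c : F) (hc : c ≠ 0) : simpleL M φ k (dg c hc) ∈ S.tor.range := by
  unfold simpleL
  split_ifs with h
  · obtain ⟨e, he⟩ := S.hgen c hc
    have : dg c hc = dSL hw ^ e := by rw [dSL_pow_eq]; simp only [he]
    rw [this, map_pow, MonoidHom.comp_apply, S.torus _ _ (next_ne h)]
    exact pow_mem (mul_mem (S.g_mem _) (inv_mem (S.g_mem _))) e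
  · exact S.dg_mem k c hc

variable [Finite F]

theorem SpSys.short_move {k l : Fin m} (h : k ≠ l) (i : Fin m) (z : SL F) :
    φ (emb2 k l jSL) * M i z * (φ (emb2 k l jSL))⁻¹ = M (Equiv.swap k l i) z := by
  refine S.move _ (fun t => ?_) (fun t => ?_) z
  · rw [congr'_jSL h, wSgn_sq, one_mul]
  · rw [invT_val, congr'_jSL_invT h, wSgn_sq, one_mul]

theorem SpSys.simple_T (k : Fin m) : ∀ τ ∈ S.tor.range,
    simpleL M φ k jSL * τ * (simpleL M φ k jSL)⁻¹ ∈ S.tor.range := by
  refine S.tor_induction (by simp) (fun a b ha hb => ?_) fun i => ?_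
  · rw [show simpleL M φ k jSL * (a * b) * (simpleL M φ k jSL)⁻¹ =
      (simpleL M φ k jSL * a * (simpleL M φ k jSL)⁻¹) * (simpleL M φ k jSL * b * (simpleL M φ k jSL)⁻¹) by group]
    exact mul_mem ha hb
  unfold simpleL
  split_ifs with h
  · rw [MonoidHom.comp_apply, S.short_move (next_ne h)]
    exact S.g_mem _
  · by_cases hi : k = i
    · subst hi
      rw [← map_inv, ← map_mul, ← map_mul, dSL_conj_jSL, map_inv]
      exact inv_mem (S.g_mem k)
    · rw [mul_inv_eq_iff_eq_mul.2 (S.commM k i hi _ _).eq]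
      exact S.g_mem i

theorem SpSys.short_conj {k l : Fin m} (h : k ≠ l) {a b : Sgn m} (hab : b ≠ flipB a) (t : F) :
    ∃ t', φ (emb2 k l jSL) * S.rX a b t * (φ (emb2 k l jSL))⁻¹ =
      S.rX (Equiv.swap k l a.1, a.2) (Equiv.swap k l b.1, b.2) t' := by
  obtain ⟨i, x⟩ := a
  obtain ⟨j, y⟩ := b
  simp [flipB] at hab
  refine ⟨wSgn k i * wSgn k j * t, ?_⟩
  cases x <;> cases y <;> simp only [SpSys.rX]
  · rw [S.act_low _ (pairM_symm i j t), invT_val, congr'_pairM (fun a b c => congr'_jSL_invT h a b c)]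
  · have hij : j ≠ i := by simpa using hab
    rw [yTr_eq φ hij, ← map_inv, ← map_mul, ← map_mul, conj_transvection_jSL h hij,
      yTr_eq φ ((Equiv.swap k l).injective.ne hij), mul_comm (wSgn k i)]
  · have hij : i ≠ j := Ne.symm (by simpa using hab)
    rw [yTr_eq φ hij, ← map_inv, ← map_mul, ← map_mul, conj_transvection_jSL h hij,
      yTr_eq φ ((Equiv.swap k l).injective.ne hij)]
  · rw [S.act_up _ (pairM_symm i j t), congr'_pairM (fun a b c => congr'_jSL h a b c)]

theorem SpSys.long_sq (k : Fin m) (r : SpRoot m) (t : F) :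
    ∃ t', M k jSL * M k jSL * S.x r t * (M k jSL * M k jSL)⁻¹ = S.x r t' :=
  S.T_conj _ (by rw [← map_mul, jj_dg]; exact S.dg_mem k _ _) r t

theorem SpSys.long_conj (k : Fin m) {a b : Sgn m} (hab : b ≠ flipB a) (t : F) :
    ∃ t', M k jSL * S.rX a b t * (M k jSL)⁻¹ =
      S.rX (Equiv.swap (k, true) (k, false) a) (Equiv.swap (k, true) (k, false) b) t' := by
  wlog hord : a.1 = k → b.1 = k generalizing a b
  · obtain ⟨t', ht⟩ := this (a := b) (b := a) (fun e => hab (by rw [e, flipB_flipB]))
      (fun _ => by_contra fun e => hord fun e' => absurd e' e)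
    exact ⟨t', by rw [S.rX_symm a b, ht, S.rX_symm]⟩
  obtain ⟨i, x⟩ := a
  obtain ⟨j, y⟩ := b
  simp only at hord
  by_cases hj : j = k
  swap
  · have hi : i ≠ k := fun e => hj (hord e)
    rw [Equiv.swap_apply_of_ne_of_ne (by simp [hi]) (by simp [hi]),
      Equiv.swap_apply_of_ne_of_ne (by simp [hj]) (by simp [hj])]
    refine ⟨t, mul_inv_eq_iff_eq_mul.2 ?_⟩
    simp [flipB] at hab
    cases x <;> cases y <;> simp only [SpSys.rX]
    · by_cases hij : i = j
      · subst hij
        rw [pairM, if_pos rfl, SymSys.psi_single_diag]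
        exact (S.lowSys.un i k t hi).eq.symm
      · rw [pairM, if_neg hij, S.lowSys.psi_pair hij]
        exact (((S.lowSys.nn k j).mul_right (S.lowSys.ny k i j _ hij (Ne.symm hi) (Ne.symm hj))).mul_right
          (S.lowSys.nn k j).inv_right).eq
    · exact (S.fixM k j i (by simpa using hab) (Ne.symm hj) (Ne.symm hi) _ t).eq
    · exact (S.fixM k i j (Ne.symm (by simpa using hab)) (Ne.symm hi) (Ne.symm hj) _ t).eq
    · by_cases hij : i = j
      · subst hij
        rw [pairM, if_pos rfl, SymSys.psi_single_diag]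
        exact (S.upSys.un i k t hi).eq.symm
      · rw [pairM, if_neg hij, S.upSys.psi_pair hij]
        exact (((S.upSys.nn k j).mul_right (S.upSys.ny k i j _ hij (Ne.symm hi) (Ne.symm hj))).mul_right
          (S.upSys.nn k j).inv_right).eq
  subst hj
  by_cases hi : i = j
  · subst hi
    simp [flipB] at hab
    subst hab
    refine ⟨-t, ?_⟩
    cases y <;> simp [SpSys.rX, pairM, SymSys.psi_single_diag, ← map_inv, ← map_mul, jSL_low, jSL_up]
  rw [Equiv.swap_apply_of_ne_of_ne (by simp [hi]) (by simp [hi])]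
  cases x <;> cases y <;> simp only [Equiv.swap_apply_left, Equiv.swap_apply_right, SpSys.rX, pairM, if_neg hi]
  · rw [SymSys.psi_pair _ hi, mixY]
    obtain ⟨t', ht⟩ := S.long_sq j (mkRoot (i, false) (j, true) (by simp [flipB, Ne.symm hi])) (-(1 * t))
    refine ⟨t', ?_⟩
    rw [S.x_mk] at ht
    simp only [SpSys.rX] at ht
    rw [← ht]; group
  · refine ⟨-t, ?_⟩
    rw [SymSys.psi_pair _ hi, mixY, one_mul, neg_neg]
  · refine ⟨-t, ?_⟩
    rw [SymSys.psi_pair _ hi, mixY, neg_one_mul, neg_neg]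
  · rw [SymSys.psi_pair _ hi, mixY]
    obtain ⟨t', ht⟩ := S.long_sq j (mkRoot (i, true) (j, false) (by simp [flipB, Ne.symm hi])) (-1 * t)
    refine ⟨t', ?_⟩
    rw [S.x_mk] at ht
    simp only [SpSys.rX] at ht
    rw [← ht]; group

theorem SpSys.simple_n (k : Fin m) (r : SpRoot m) (t : F) : ∃ t',
    simpleL M φ k jSL * S.x r t * (simpleL M φ k jSL)⁻¹ = S.x (rootRefl k r) t' := by
  obtain ⟨a, b, hab, rfl⟩ := r.exists_mk
  simp only [rootRefl_mk, S.x_mk]
  unfold simpleL sgnRefl
  split_ifs with h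
  · exact S.short_conj (next_ne h) hab t
  · exact S.long_conj k hab t

theorem SpSys.simple_U (k : Fin m) (r : SpRoot m) (t u : F) (hr : rootPos r) (hne : r ≠ rootSimple k) :
    S.x (rootSimple k) t * S.x r u * (S.x (rootSimple k) t)⁻¹ ∈
      Subgroup.closure {z | ∃ r' u', rootPos r' ∧ r' ≠ rootSimple k ∧ z = S.x r' u'} := by
  set H := Subgroup.closure {z | ∃ r' u', rootPos r' ∧ r' ≠ rootSimple k ∧ z = S.x r' u'}
  have mem : ∀ (a b : Sgn m) (h : b ≠ flipB a) (v : F), 0 < hgt a + hgt b → mkRoot a b h ≠ rootSimple k →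
      S.rX a b v ∈ H := fun a b h v hp hn => Subgroup.subset_closure ⟨mkRoot a b h, v, hp, hn, rfl⟩
  have same : S.x r u ∈ H := Subgroup.subset_closure ⟨r, u, hr, hne, rfl⟩
  obtain ⟨⟨i, x⟩, ⟨j, y⟩, hab, rfl⟩ := r.exists_mk
  rw [rootPos_mk] at hr
  have hk := k.2
  unfold rootSimple at hne mem ⊢
  by_cases h : k.val + 1 < m
  · simp only [dif_pos h] at hne mem ⊢
    simp only [S.x_mk] at same ⊢
    set k' : Fin m := ⟨k.val + 1, h⟩ with hk'
    have hkk : k ≠ k' := next_ne h
    have hk'v : k'.val = k.val + 1 := rfl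
    have hmat : ∀ X : Matrix (Fin m) (Fin m) F, X.IsSymm → S.upSys.psi X ∈ H := fun X hX => by
      refine sym_induction (p := fun X => S.upSys.psi X ∈ H) (by rw [SymSys.psi_zero]; exact one_mem H)
        (fun A B hA hB => by rw [SymSys.psi_add]; exact mul_mem hA hB) (fun l c => ?_) (fun l l' hl c => ?_) hX
      · have := mem (l, true) (l, true) (flipB_ne _).symm c (by simp [hgt])
          (by simp [mkRoot, Prod.ext_iff])
        simpa [SpSys.rX, pairM] using this
      · have := mem (l, true) (l', true) (by simp [flipB]) c (by have := l.2; have := l'.2; simp [hgt]; omega)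
          (by simp [mkRoot, Prod.ext_iff])
        simpa [SpSys.rX, pairM, hl] using this
    have hy : ∀ p q : Fin m, p < q → (p ≠ k ∨ q ≠ k') → ∀ v, yTr φ p q v ∈ H := fun p q hpq hn v => by
      have := mem (p, true) (q, false) (by simp [flipB, hpq.ne']) v (by simp [hgt]; omega)
        (by simp [mkRoot, Prod.ext_iff]; tauto)
      simpa [SpSys.rX] using this
    show yTr φ k k' t * S.rX (i, x) (j, y) u * (yTr φ k k' t)⁻¹ ∈ H
    have key : ∀ p q : Fin m, p < q → (p ≠ k ∨ q ≠ k') → yTr φ k k' t * yTr φ p q u * (yTr φ k k' t)⁻¹ ∈ H :=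
      fun p q hpq hn => by
        by_cases h1 : p = k'
        · subst h1
          rw [(yTr_preSt φ).conj_right hkk hpq.ne (by intro e; subst e; omega)]
          exact mul_mem (hy k q (by omega) (Or.inr hpq.ne') _) (hy _ _ hpq hn _)
        by_cases h2 : q = k
        · subst h2
          rw [(yTr_preSt φ).conj_left hpq.ne hkk h1]
          exact mul_mem (hy p k' (by omega) (Or.inl hpq.ne) _) (hy _ _ hpq hn _)
        rw [mul_inv_eq_iff_eq_mul.2 ((yTr_preSt φ).comm k k' p q t u hkk hpq.ne (Ne.symm h2) (Ne.symm h1)).eq]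
        exact hy _ _ hpq hn _
    have hi := i.2
    have hj := j.2
    simp [mkRoot, Prod.ext_iff] at hne
    cases x <;> cases y <;> simp only [SpSys.rX] at same ⊢
    · simp [hgt] at hr; omega
    · simp [hgt] at hr; simp at hne
      exact key j i (by omega) (by tauto)
    · simp [hgt] at hr; simp at hne
      exact key i j (by omega) (by tauto)
    · rw [S.upSys.equi hkk t (pairM_symm i j u)]
      exact hmat _ (by simp [congr', Matrix.IsSymm, Matrix.transpose_mul, (pairM_symm i j u).eq, Matrix.mul_assoc])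
  · simp only [dif_neg h] at hne mem ⊢
    simp only [S.x_mk] at same ⊢
    show S.rX (k, true) (k, true) t * S.rX (i, x) (j, y) u * (S.rX (k, true) (k, true) t)⁻¹ ∈ H
    have key : ∀ p q : Fin m, p < q → yTr φ p q u ∈ H →
        S.rX (k, true) (k, true) t * yTr φ p q u * (S.rX (k, true) (k, true) t)⁻¹ ∈ H := fun p q hpq hm => by
      simp only [SpSys.rX, pairM, if_pos, SymSys.psi_single_diag]
      by_cases hq : q = k
      · subst hq
        have e := S.upSys.formula hpq.ne' u t
        rw [commutatorElement_def, mul_inv_eq_iff_eq_mul] at e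
        rw [show M q (up t) * yTr φ p q u * (M q (up t))⁻¹ =
          (mixY (-1) (yTr φ) (fun k => M k jSL) q p (u * t) * M p (up (u ^ 2 * t)))⁻¹ * yTr φ p q u by
          rw [eq_inv_mul_iff_mul_eq]
          have e' : yTr φ p q u * M q (up t) = mixY (-1) (yTr φ) (fun k => M k jSL) q p (u * t) *
              M p (up (u ^ 2 * t)) * M q (up t) * yTr φ p q u := by rw [← e]; group
          rw [← mul_assoc, ← mul_assoc, ← e', mul_inv_cancel_right]]
        refine mul_mem (inv_mem (mul_mem ?_ ?_)) hm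
        · have := mem (q, true) (p, true) (by simp [flipB]) (u * t) (by have := q.2; have := p.2; simp [hgt]; omega)
            (by simp [mkRoot, Prod.ext_iff, hpq.ne])
          simpa [SpSys.rX, pairM, hpq.ne', SymSys.psi_pair _ hpq.ne'] using this
        · have := mem (p, true) (p, true) (flipB_ne _).symm (u ^ 2 * t) (by simp [hgt])
            (by simp [mkRoot, Prod.ext_iff, hpq.ne])
          simpa [SpSys.rX, pairM, SymSys.psi_single_diag] using this
      · rw [mul_inv_eq_iff_eq_mul.2 (S.upSys.uy k p q t u hpq.ne (Ne.symm hq)).eq]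
        exact hm
    have hi := i.2
    have hj := j.2
    cases x <;> cases y
    · simp [hgt] at hr; omega
    · simp [hgt] at hr
      exact key j i (by omega) same
    · simp [hgt] at hr
      exact key i j (by omega) same
    · have e := S.upSys.psi_comm (pairM k k t) (pairM i j u)
      show S.upSys.psi _ * S.upSys.psi _ * (S.upSys.psi _)⁻¹ ∈ H
      rw [e.eq, mul_inv_cancel_right]
      exact same

end CfsgLib.SpPres
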