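import Cfsg.Agent.Lib.KnownB.SpPres.Simple

/-!
# A symplectic system mapping onto its matrices is the symplectic group
-/

set_option autoImplicit false
set_option linter.unusedSectionVars false

open Matrix CfsgLib.Perm.Quad.SL2 CfsgLib.SL2Pres CfsgLib.SLPres CfsgLib.Classical CfsgLib.KnownA.StSL
open scoped commutatorElement

namespace CfsgLib.SpPres

variable {F : Type*} [Field F] {m : ℕ}

/-- Upper unitriangular matrices. -/
def IsUTri (X : Matrix (Fin m) (Fin m) F) : Prop := (∀ i j, j < i → X i j = 0) ∧ ∀ i, X i i = 1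

theorem isUTri_mul {X Y : Matrix (Fin m) (Fin m) F} (hX : IsUTri X) (hY : IsUTri Y) : IsUTri (X * Y) := by
  refine ⟨fun i j hji => ?_, fun i => ?_⟩
  · rw [Matrix.mul_apply]
    refine Finset.sum_eq_zero fun k _ => ?_
    by_cases hk : k < i
    · rw [hX.1 i k hk, zero_mul]
    · rw [hY.1 k j (lt_of_lt_of_le hji (not_lt.1 hk)), mul_zero]
  · rw [Matrix.mul_apply, Finset.sum_eq_single i]
    · rw [hX.2, hY.2, one_mul]
    · intro k _ hk
      rcases lt_or_gt_of_ne hk with hk | hk
      · rw [hX.1 i k hk, zero_mul]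
      · rw [hY.1 k i hk, mul_zero]
    · simp

theorem isUTri_one : IsUTri (1 : Matrix (Fin m) (Fin m) F) :=
  ⟨fun _ _ h => Matrix.one_apply_ne h.ne', fun _ => Matrix.one_apply_eq _⟩

/-- The unitriangular elements of the special linear group. -/
def uTri (F : Type*) [Field F] (m : ℕ) : Subgroup (SpecialLinearGroup (Fin m) F) where
  carrier := {A | IsUTri A.1 ∧ IsUTri A⁻¹.1}
  one_mem' := ⟨isUTri_one, by rw [inv_one]; exact isUTri_one⟩
  mul_mem' := fun {A B} hA hB => ⟨isUTri_mul hA.1 hB.1, by rw [_root_.mul_inv_rev]; exact isUTri_mul hB.2 hA.2⟩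
  inv_mem' := fun {A} hA => ⟨hA.2, by rw [inv_inv]; exact hA.1⟩

theorem transvection_mem_uTri {i j : Fin m} (h : i < j) (t : F) :
    SpecialLinearGroup.transvection h.ne t ∈ uTri F m := by
  have key : ∀ t : F, IsUTri (Matrix.transvection i j t) := fun t => by
    refine ⟨fun a b hba => ?_, fun a => ?_⟩
    · rw [Matrix.transvection, Matrix.add_apply, Matrix.one_apply_ne hba.ne', zero_add, Matrix.single_apply,
        if_neg]
      rintro ⟨rfl, rfl⟩; exact h.not_gt hba
    · rw [Matrix.transvection, Matrix.add_apply, Matrix.one_apply_eq, Matrix.single_apply, if_neg, add_zero]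
      rintro ⟨rfl, rfl⟩; exact h.ne rfl
  exact ⟨key t, by rw [transvection_inv_val]; exact key (-t)⟩

variable {P : Type*} [Group P] {w : F} {hw : w ≠ 0} {M : Fin m → SL F →* P}
  {φ : SpecialLinearGroup (Fin m) F →* P} (S : SpSys hw M φ)
  (π : P →* Matrix.symplecticGroup (Fin m) F) (hM : ∀ i z, π (M i z) = mEmb i z) (hφ : ∀ A, π (φ A) = leviHom A)
include S

variable [Finite F]

theorem SpSys.U_form {u : P} (hu : u ∈ Subgroup.closure {z | ∃ r t, rootPos r ∧ z = S.x r t}) :
    ∃ X : Matrix (Fin m) (Fin m) F, X.IsSymm ∧ ∃ A ∈ uTri F m, u = S.upSys.psi X * φ A := by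
  induction hu using Subgroup.closure_induction with
  | mem z hz =>
    obtain ⟨r, t, hr, rfl⟩ := hz
    obtain ⟨⟨i, x⟩, ⟨j, y⟩, h, rfl⟩ := r.exists_mk
    have hi := i.2
    have hj := j.2
    rw [rootPos_mk] at hr
    rw [S.x_mk]
    cases x <;> cases y <;> simp [hgt] at hr <;> simp only [SpSys.rX]
    · omega
    · exact ⟨0, Matrix.isSymm_zero, _, transvection_mem_uTri (show j < i by omega) t,
        by rw [SymSys.psi_zero, one_mul, yTr_eq φ (show j < i by omega).ne]⟩
    · exact ⟨0, Matrix.isSymm_zero, _, transvection_mem_uTri (show i < j by omega) t,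
        by rw [SymSys.psi_zero, one_mul, yTr_eq φ (show i < j by omega).ne]⟩
    · exact ⟨_, pairM_symm i j t, 1, one_mem _, by rw [map_one, mul_one]⟩
  | one => exact ⟨0, Matrix.isSymm_zero, 1, one_mem _, by rw [SymSys.psi_zero, map_one, mul_one]⟩
  | mul a b _ _ ha hb =>
    obtain ⟨X, hX, A, hA, rfl⟩ := ha
    obtain ⟨Y, hY, B, hB, rfl⟩ := hb
    refine ⟨X + congr' A.1 Y, hX.add (by simp [congr', Matrix.IsSymm, Matrix.transpose_mul, hY.eq, Matrix.mul_assoc]),
      A * B, mul_mem hA hB, ?_⟩
    rw [SymSys.psi_add, ← S.act_up A hY, map_mul]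
    group
  | inv a _ ha =>
    obtain ⟨X, hX, A, hA, rfl⟩ := ha
    refine ⟨congr' A⁻¹.1 (-X), by simp [congr', Matrix.IsSymm, Matrix.transpose_mul, hX.eq, Matrix.mul_assoc],
      A⁻¹, inv_mem hA, ?_⟩
    have hneg : S.upSys.psi (-X) = (S.upSys.psi X)⁻¹ := eq_inv_of_mul_eq_one_right (by
      rw [← SymSys.psi_add, add_neg_cancel, SymSys.psi_zero])
    rw [← S.act_up A⁻¹ (hX.neg), hneg, map_inv]
    group

include hM in
theorem SpSys.pi_tor (c : Fin m → Fˣ) : (π (S.tor c)).1 =
    fromBlocks (diagonal fun i => (c i : F)) 0 0 (diagonal fun i => ((c i : F))⁻¹) := by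
  rw [← Finset.univ_prod_mulSingle c]
  refine Finset.prod_induction _ (fun c : Fin m → Fˣ => (π (S.tor c)).1 =
    fromBlocks (diagonal fun i => (c i : F)) 0 0 (diagonal fun i => ((c i : F))⁻¹)) (fun a b ha hb => ?_) ?_
    fun k _ => ?_
  · rw [map_mul, map_mul]
    show (π (S.tor a)).1 * (π (S.tor b)).1 = _
    rw [ha, hb, fromBlocks_multiply]
    simp [mul_comm]
  · rw [map_one, map_one]
    simp [diagonal_one, fromBlocks_one]
  · rw [S.tor_single, hM, mEmb_dg]
    congr 1 <;> congr 1 <;> funext i <;> by_cases hi : i = k <;> simp [hi, Pi.mulSingle_apply]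

include hM hφ

theorem SpSys.pi_form (X : Matrix (Fin m) (Fin m) F) (hX : X.IsSymm) (A : SpecialLinearGroup (Fin m) F) :
    (π (S.upSys.psi X * φ A)).1 = fromBlocks A.1 (X * A⁻¹.1ᵀ) 0 A⁻¹.1ᵀ := by
  rw [map_mul, hφ]
  show (π (S.upSys.psi X)).1 * (leviHom A).1 = _
  rw [S.pi_up π hM hφ hX, leviHom_val, upBlk, fromBlocks_multiply]
  simp

theorem SpSys.toBN : BN π rootNeg rootPos rootSimple rootRefl S.x (simpleL M φ) S.tor.range where
  neg_neg := rootNeg_rootNeg
  pos_neg := rootPos_neg
  pos_simple := rootSimple_pos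
  s_simple := rootRefl_simple
  s_pos := rootRefl_pos
  s_neg := rootRefl_neg
  s_s := rootRefl_self
  add := S.x_add
  L_up := S.simple_up
  L_low := S.simple_low
  n_conj := S.simple_n
  T_conj := S.T_conj
  T_n := S.simple_T
  T_dg := S.simple_dg
  simple_conj := fun d r t u => S.simple_U d r t u
  inj_L d := by
    intro a b hab
    unfold simpleL at hab
    split_ifs at hab with h
    · simp only [MonoidHom.comp_apply, hφ] at hab
      have := congrArg (fun z : symplecticGroup (Fin m) F => z.1.toBlocks₁₁) hab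
      simp only [leviHom_val, Matrix.toBlocks_fromBlocks₁₁] at this
      exact emb2_injective (next_ne h) (Subtype.ext this)
    · simp only [hM] at hab
      exact mEmb_injective d hab
  inj_B u hu τ hτ h := by
    obtain ⟨X, hX, A, hA, rfl⟩ := S.U_form hu
    obtain ⟨c, rfl⟩ := hτ
    rw [map_mul] at h
    have h' : (π (S.upSys.psi X * φ A)).1 * (π (S.tor c)).1 = 1 := congrArg Subtype.val h
    rw [S.pi_form π hM hφ X hX A, S.pi_tor π hM c, fromBlocks_multiply, ← fromBlocks_one, fromBlocks_inj] at h'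
    simp only [Matrix.mul_zero, Matrix.zero_mul, add_zero, zero_add] at h'
    obtain ⟨h1, h2, -, h4⟩ := h'
    have hc : c = 1 := funext fun i => Units.ext (by
      have := congrFun (congrFun h1 i) i
      rwa [Matrix.mul_diagonal, hA.1.2, one_mul, Matrix.one_apply_eq] at this)
    subst hc
    simp only [Pi.one_apply, Units.val_one, inv_one, diagonal_one, Matrix.mul_one] at h1 h2 h4
    rw [h4, Matrix.mul_one] at h2
    obtain rfl : A = 1 := Subtype.ext h1
    subst h2
    simp [SymSys.psi_zero]
  sep r r' hne t t' h := by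
    obtain ⟨a, b, hab, rfl⟩ := r.exists_mk
    obtain ⟨c, d, hcd, rfl⟩ := r'.exists_mk
    rw [S.x_mk, S.x_mk] at h
    obtain ⟨h1, -⟩ := S.pi_x_entry π hM hφ hab t
    obtain ⟨-, h2⟩ := S.pi_x_entry π hM hφ hcd t'
    by_contra ht
    have hent := mt h1 ht
    rw [h] at hent
    rcases h2 _ _ (sgnIdx_injective.ne (fun e => hab (by rw [e, flipB_flipB]))) hent with ⟨e1, e2⟩ | ⟨e1, e2⟩
    · exact hne (Subtype.ext (Sym2.eq_iff.2 (Or.inl ⟨sgnIdx_injective e1, flipB_injective (sgnIdx_injective e2)⟩)))
    · exact hne (Subtype.ext (Sym2.eq_iff.2 (Or.inr ⟨sgnIdx_injective e1, flipB_injective (sgnIdx_injective e2)⟩)))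
  sep_neg r t hr hmem := by
    obtain ⟨a, b, hab, rfl⟩ := r.exists_mk
    obtain ⟨u, hu, hπu⟩ := hmem
    rw [S.x_mk] at hπu
    refine (S.pi_x_entry π hM hφ hab t).1 ?_
    rw [← hπu]
    obtain ⟨X, hX, A, hA, rfl⟩ := S.U_form hu
    rw [S.pi_form π hM hφ X hX A]
    rw [rootPos_mk] at hr
    have hlt : idxHgt (sgnIdx a) < idxHgt (sgnIdx (flipB b)) := by
      have := hgt_injective.ne hab
      rw [idxHgt_sgnIdx, idxHgt_sgnIdx, hgt_flipB] at *
      omega
    generalize sgnIdx a = p at hlt ⊢
    generalize sgnIdx (flipB b) = q at hlt ⊢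
    rcases p with p | p <;> rcases q with q | q <;> simp [idxHgt, hgt] at hlt
    · exact hA.1.1 p q (by omega)
    · omega
    · rfl
    · exact hA.2.1 q p (by omega)
  gen := by
    set H := Subgroup.closure ({z | ∃ d t, z = S.x (rootSimple d) t ∨ z = S.x (rootNeg (rootSimple d)) t} ∪
      (S.tor.range : Set P))
    have hL : ∀ k z, simpleL M φ k z ∈ H := fun k z => by
      have : H.comap (simpleL M φ k) = ⊤ := eq_top_of_up_low
        (fun t => Subgroup.mem_comap.2 (by
          rw [S.simple_up]; exact Subgroup.subset_closure (Or.inl ⟨k, t, Or.inl rfl⟩)))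
        fun t => Subgroup.mem_comap.2 (by
          rw [S.simple_low]; exact Subgroup.subset_closure (Or.inl ⟨k, t, Or.inr rfl⟩))
      exact this.ge (Subgroup.mem_top z)
    have hy : ∀ d, ∀ i j : Fin m, (j.val = i.val + d ∨ i.val = j.val + d) → i ≠ j → ∀ t, yTr φ i j t ∈ H := by
      intro d
      induction d with
      | zero => intro i j h hne; exact absurd (Fin.ext (by omega)) hne
      | succ d ih =>
        intro i j h hne t
        rcases Nat.eq_zero_or_pos d with rfl | hd
        · rcases h with h | h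
          · have hi : i.val + 1 < m := by omega
            obtain rfl : j = ⟨i.val + 1, hi⟩ := Fin.ext (by simpa using h)
            have := hL i (up t)
            rwa [simpleL, dif_pos hi, MonoidHom.comp_apply, emb2_up (next_ne hi), ← yTr_eq φ (next_ne hi)] at this
          · have hj : j.val + 1 < m := by omega
            obtain rfl : i = ⟨j.val + 1, hj⟩ := Fin.ext (by simpa using h)
            have := hL j (low t)
            rwa [simpleL, dif_pos hj, MonoidHom.comp_apply, emb2_low (next_ne hj), ← yTr_eq φ (next_ne hj).symm]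
              at this
        obtain ⟨k, hk⟩ : ∃ k : Fin m, (j.val = i.val + (d + 1) ∧ k.val = j.val - 1) ∨
            (i.val = j.val + (d + 1) ∧ k.val = j.val + 1) := by
          rcases h with h | h
          · exact ⟨⟨j.val - 1, by omega⟩, Or.inl ⟨h, rfl⟩⟩
          · exact ⟨⟨j.val + 1, by omega⟩, Or.inr ⟨h, rfl⟩⟩
        have hik : i ≠ k := fun e => by subst e; omega
        have hkj : k ≠ j := fun e => by subst e; omega
        rw [show yTr φ i j t = ⁅yTr φ i k t, yTr φ k j 1⁆ by
          rw [(yTr_preSt φ).mix i k j t 1 hik hkj hne, mul_one]]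
        have m1 : yTr φ i k t ∈ H := ih i k (by omega) hik t
        have m2 : yTr φ k j 1 ∈ H := by
          rcases hk with hk | hk
          · have hk1 : k.val + 1 < m := by omega
            obtain rfl : j = ⟨k.val + 1, hk1⟩ := Fin.ext (by simp; omega)
            have := hL k (up 1)
            rwa [simpleL, dif_pos hk1, MonoidHom.comp_apply, emb2_up (next_ne hk1), ← yTr_eq φ (next_ne hk1)] at this
          · have hj : j.val + 1 < m := by omega
            obtain rfl : k = ⟨j.val + 1, hj⟩ := Fin.ext (by simp; omega)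
            have := hL j (low 1)
            rwa [simpleL, dif_pos hj, MonoidHom.comp_apply, emb2_low (next_ne hj), ← yTr_eq φ (next_ne hj).symm]
              at this
        rw [commutatorElement_def]
        exact mul_mem (mul_mem (mul_mem m1 m2) (inv_mem m1)) (inv_mem m2)
    have hφH : φ.range ≤ H := by
      rintro _ ⟨A, rfl⟩
      have : H.comap φ = ⊤ := CfsgLib.Classical.sl_subgroup_eq_top _ fun i j h t => Subgroup.mem_comap.2 (by
        rw [← yTr_eq φ h]
        rcases le_total i.val j.val with h' | h'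
        · exact hy (j.val - i.val) i j (Or.inl (by omega)) h t
        · exact hy (i.val - j.val) i j (Or.inr (by omega)) h t)
      exact this.ge (Subgroup.mem_top A)
    have hMH : ∀ d, ∀ k : Fin m, m - k.val = d → ∀ z, M k z ∈ H := by
      intro d
      induction d with
      | zero => intro k h; have := k.2; omega
      | succ d ih =>
        intro k h z
        by_cases hk : k.val + 1 < m
        · have := ih ⟨k.val + 1, hk⟩ (by simp; omega) z
          rw [show (⟨k.val + 1, hk⟩ : Fin m) = Equiv.swap k ⟨k.val + 1, hk⟩ k by simp,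
            ← S.short_move (next_ne hk)] at this
          have hW : φ (emb2 k ⟨k.val + 1, hk⟩ jSL) ∈ H := hφH ⟨_, rfl⟩
          have := mul_mem (mul_mem (inv_mem hW) this) hW
          simpa [mul_assoc] using this
        · have := hL k z
          rwa [simpleL, dif_neg hk] at this
    rw [eq_top_iff, ← S.gen, Subgroup.closure_le]
    rintro g (hg | hg)
    · exact hφH hg
    · obtain ⟨k, hk⟩ := Set.mem_iUnion.1 hg
      obtain ⟨z, rfl⟩ := hk
      exact hMH _ k rfl z

/-- The recognition theorem. -/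
theorem SpSys.bijective (hm : 1 ≤ m) : Function.Bijective π := by
  classical
  cases nonempty_fintype F
  refine ⟨(S.toBN π hM hφ).injective, ?_⟩
  rw [← MonoidHom.range_eq_top]
  exact sp_eq_top hm (fun X hX => ⟨_, ⟨_, rfl⟩, S.pi_up π hM hφ hX⟩)
    fun X hX => ⟨_, ⟨_, rfl⟩, S.pi_low π hM hφ hX⟩

end CfsgLib.SpPres
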