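import Cfsg.Agent.Lib.KnownB.SpPres.Target

/-!
# Roots of type C and the monomial matrices of the simple reflections
-/

set_option autoImplicit false
set_option linter.unusedSectionVars false

open Matrix CfsgLib.Perm.Quad.SL2 CfsgLib.SL2Pres CfsgLib.SLPres CfsgLib.Classical

namespace CfsgLib.SpPres

variable {m : ℕ}

/-- Signed coordinates. -/
abbrev Sgn (m : ℕ) := Fin m × Bool

/-- The opposite signed coordinate. -/
def flipB (a : Sgn m) : Sgn m := (a.1, !a.2)

theorem flipB_flipB (a : Sgn m) : flipB (flipB a) = a := by simp [flipB]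

theorem flipB_ne (a : Sgn m) : flipB a ≠ a := by simp [flipB, Prod.ext_iff]

theorem flipB_injective : Function.Injective (flipB (m := m)) := Function.LeftInverse.injective flipB_flipB

/-- The height of a signed coordinate. -/
def hgt (a : Sgn m) : ℤ := if a.2 then (m : ℤ) - a.1.val else a.1.val - (m : ℤ)

theorem hgt_flipB (a : Sgn m) : hgt (flipB a) = -hgt a := by
  obtain ⟨i, b⟩ := a
  cases b <;> simp [hgt, flipB]

theorem hgt_injective : Function.Injective (hgt (m := m)) := by
  rintro ⟨i, b⟩ ⟨j, c⟩ h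
  have hi := i.2
  have hj := j.2
  cases b <;> cases c <;> simp [hgt] at h
  all_goals first
    | (exfalso; omega)
    | exact Prod.ext (Fin.ext (by omega)) rfl

/-- The roots: pairs of signed coordinates which are not opposite. -/
abbrev SpRoot (m : ℕ) := {z : Sym2 (Sgn m) // ∀ a, z ≠ s(a, flipB a)}

theorem nondeg_iff {a b : Sgn m} : (∀ c, s(a, b) ≠ s(c, flipB c)) ↔ b ≠ flipB a := by
  refine ⟨fun h e => h a (by rw [e]), fun h c e => ?_⟩
  rcases Sym2.eq_iff.1 e with ⟨rfl, e2⟩ | ⟨e1, e2⟩
  · exact h e2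
  · exact h (by rw [e1, flipB_flipB, e2])

/-- The root of two coordinates. -/
def mkRoot (a b : Sgn m) (h : b ≠ flipB a) : SpRoot m := ⟨s(a, b), nondeg_iff.2 h⟩

theorem SpRoot.exists_mk (r : SpRoot m) : ∃ a b, ∃ h : b ≠ flipB a, r = mkRoot a b h := by
  obtain ⟨z, hz⟩ := r
  induction z using Sym2.ind with
  | h a b => exact ⟨a, b, nondeg_iff.1 hz, rfl⟩

/-- The map induced by a permutation commuting with the flip. -/
def rootPerm (σ : Equiv.Perm (Sgn m)) (hσ : ∀ a, σ (flipB a) = flipB (σ a)) : Equiv.Perm (SpRoot m) where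
  toFun r := ⟨r.1.map σ, fun c e => r.2 (σ.symm c) (Sym2.map.injective σ.injective (by
    rw [e, Sym2.map_mk, hσ, Equiv.apply_symm_apply]))⟩
  invFun r := ⟨r.1.map σ.symm, fun c e => r.2 (σ c) (Sym2.map.injective σ.symm.injective (by
    rw [e, Sym2.map_mk, Equiv.symm_apply_apply, ← hσ, Equiv.symm_apply_apply]))⟩
  left_inv r := Subtype.ext (by simp [Sym2.map_map])
  right_inv r := Subtype.ext (by simp [Sym2.map_map])

/-- Negation of roots. -/
def rootNeg (r : SpRoot m) : SpRoot m :=
  ⟨r.1.map flipB, fun c e => r.2 (flipB c) (Sym2.map.injective flipB_injective (by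
    rw [e, Sym2.map_mk]; simp only [flipB_flipB]))⟩

theorem rootNeg_mk (a b : Sgn m) (h : b ≠ flipB a) :
    rootNeg (mkRoot a b h) = mkRoot (flipB a) (flipB b) (flipB_injective.ne h) := rfl

theorem rootNeg_rootNeg (r : SpRoot m) : rootNeg (rootNeg r) = r :=
  Subtype.ext (by simp [rootNeg, Sym2.map_map, Function.comp_def, flipB_flipB])

/-- Positivity. -/
def rootPos (r : SpRoot m) : Prop :=
  0 < Sym2.lift ⟨fun a b => hgt a + hgt b, fun a b => add_comm _ _⟩ r.1

theorem rootPos_mk (a b : Sgn m) (h : b ≠ flipB a) : rootPos (mkRoot a b h) ↔ 0 < hgt a + hgt b := Iff.rfl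

theorem rootPos_neg (r : SpRoot m) : rootPos (rootNeg r) ↔ ¬ rootPos r := by
  obtain ⟨a, b, h, rfl⟩ := r.exists_mk
  rw [rootNeg_mk, rootPos_mk, rootPos_mk, hgt_flipB, hgt_flipB]
  have : hgt b ≠ hgt (flipB a) := hgt_injective.ne h
  rw [hgt_flipB] at this
  omega

/-- The simple reflections on signed coordinates. -/
def sgnRefl (k : Fin m) : Equiv.Perm (Sgn m) :=
  if h : k.val + 1 < m then (Equiv.swap k ⟨k.val + 1, h⟩).prodCongr (Equiv.refl Bool)
  else Equiv.swap (k, true) (k, false)

theorem sgnRefl_flip (k : Fin m) (a : Sgn m) : sgnRefl k (flipB a) = flipB (sgnRefl k a) := by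
  unfold sgnRefl
  split_ifs with h
  · rfl
  · obtain ⟨i, b⟩ := a
    by_cases hi : i = k
    · subst hi; cases b <;> simp [flipB]
    · rw [Equiv.swap_apply_of_ne_of_ne (by simp [flipB, hi]) (by simp [flipB, hi]),
        Equiv.swap_apply_of_ne_of_ne (by simp [hi]) (by simp [hi])]

theorem sgnRefl_self (k : Fin m) (a : Sgn m) : sgnRefl k (sgnRefl k a) = a := by
  unfold sgnRefl
  split_ifs with h
  · obtain ⟨i, b⟩ := a; simp
  · simp

/-- The simple reflections on roots. -/
def rootRefl (k : Fin m) : Equiv.Perm (SpRoot m) := rootPerm (sgnRefl k) (sgnRefl_flip k)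

theorem rootRefl_mk (k : Fin m) (a b : Sgn m) (h : b ≠ flipB a) :
    rootRefl k (mkRoot a b h) =
      mkRoot (sgnRefl k a) (sgnRefl k b) (by rw [← sgnRefl_flip]; exact (sgnRefl k).injective.ne h) := rfl

theorem rootRefl_self (k : Fin m) (r : SpRoot m) : rootRefl k (rootRefl k r) = r :=
  Subtype.ext (by simp [rootRefl, rootPerm, Sym2.map_map, Function.comp_def, sgnRefl_self])

theorem rootRefl_neg (k : Fin m) (r : SpRoot m) : rootRefl k (rootNeg r) = rootNeg (rootRefl k r) :=
  Subtype.ext (by simp [rootRefl, rootNeg, rootPerm, Sym2.map_map, Function.comp_def, sgnRefl_flip])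

/-- The simple roots. -/
def rootSimple (k : Fin m) : SpRoot m :=
  if h : k.val + 1 < m then
    mkRoot (k, true) (⟨k.val + 1, h⟩, false) (by simp [flipB, Fin.ext_iff])
  else mkRoot (k, true) (k, true) (flipB_ne _).symm

theorem rootSimple_pos (k : Fin m) : rootPos (rootSimple k) := by
  unfold rootSimple
  split_ifs with h <;> rw [rootPos_mk] <;> simp [hgt]

theorem rootRefl_simple (k : Fin m) : rootRefl k (rootSimple k) = rootNeg (rootSimple k) := by
  unfold rootSimple
  split_ifs with h
  · rw [rootRefl_mk, rootNeg_mk]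
    apply Subtype.ext
    simp [mkRoot, sgnRefl, dif_pos h, flipB]
  · rw [rootRefl_mk, rootNeg_mk]
    apply Subtype.ext
    simp [mkRoot, sgnRefl, dif_neg h, flipB]

theorem rootRefl_pos (k : Fin m) (r : SpRoot m) (hr : rootPos r) (hne : r ≠ rootSimple k) :
    rootPos (rootRefl k r) := by
  obtain ⟨a, b, hab, rfl⟩ := r.exists_mk
  rw [rootRefl_mk, rootPos_mk]
  rw [rootPos_mk] at hr
  have hne' : mkRoot a b hab ≠ rootSimple k := hne
  unfold rootSimple at hne'
  unfold sgnRefl
  obtain ⟨i, x⟩ := a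
  obtain ⟨j, y⟩ := b
  have hi := i.2
  have hj := j.2
  split_ifs with h
  · rw [dif_pos h] at hne'
    simp only [ne_eq, mkRoot, Subtype.mk.injEq, Sym2.eq_iff, Prod.mk.injEq, Fin.ext_iff] at hne'
    rw [show (k.val + 1) = (⟨k.val + 1, h⟩ : Fin m).val from rfl] at hne'
    generalize hk₂ : (⟨k.val + 1, h⟩ : Fin m) = k' at *
    have hk' : k'.val = k.val + 1 := by rw [← hk₂]
    clear hk₂
    simp only [Equiv.prodCongr_apply, Prod.map, Equiv.refl_apply, Equiv.swap_apply_def, Fin.ext_iff]
    cases x <;> cases y <;> simp [hgt] at hne' hr ⊢ <;> split_ifs <;> simp at * <;> omega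
  · rw [dif_neg h] at hne'
    simp only [ne_eq, mkRoot, Subtype.mk.injEq, Sym2.eq_iff, Prod.mk.injEq, Fin.ext_iff] at hne'
    simp [flipB, Prod.ext_iff, Fin.ext_iff] at hab
    simp only [Equiv.swap_apply_def, Prod.mk.injEq, Fin.ext_iff]
    cases x <;> cases y <;> simp [hgt] at hne' hab hr ⊢ <;> split_ifs <;> simp at * <;> omega

variable {F : Type*} [Field F]

/-- The sign of the monomial matrix of a transposition. -/
def wSgn (k : Fin m) (a : Fin m) : F := if a = k then -1 else 1

theorem wSgn_sq (k a : Fin m) : (wSgn k a : F) * wSgn k a = 1 := by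
  unfold wSgn; split_ifs <;> simp

theorem transvection_mul_single (i j a b : Fin m) (t c : F) :
    Matrix.transvection i j t * Matrix.single a b c =
      Matrix.single a b c + if j = a then Matrix.single i b (t * c) else 0 := by
  rw [Matrix.transvection, add_mul, one_mul]
  split_ifs with h
  · subst h; rw [Matrix.single_mul_single_same]
  · rw [Matrix.single_mul_single_of_ne _ _ _ _ h]

theorem emb2_jSL {k l : Fin m} (h : k ≠ l) : emb2 k l (jSL : SL F) =
    SpecialLinearGroup.transvection h 1 * SpecialLinearGroup.transvection h.symm (-1) *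
      SpecialLinearGroup.transvection h 1 := by
  rw [← emb2_up h, ← emb2_low h, ← map_mul, ← map_mul]
  congr 1
  apply ext2 <;> simp [mul_apply2, jSL_coe, up_val, low_val]

theorem emb2_jSL_mul_single {k l : Fin m} (h : k ≠ l) (a b : Fin m) (c : F) :
    (emb2 k l (jSL : SL F)).1 * Matrix.single a b c = Matrix.single (Equiv.swap k l a) b (wSgn k a * c) := by
  rw [emb2_jSL h]
  show Matrix.transvection k l (1 : F) * Matrix.transvection l k (-1) * Matrix.transvection k l 1 * _ = _
  simp only [Matrix.mul_assoc]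
  by_cases ha : a = k
  · subst ha
    simp [transvection_mul_single, h, h.symm, wSgn, Matrix.mul_add, ← Matrix.single_add, ← Matrix.single_neg]
  by_cases hb : a = l
  · subst hb
    simp [transvection_mul_single, h, h.symm, wSgn, Matrix.mul_add, ← Matrix.single_add, ← Matrix.single_neg]
  · simp [transvection_mul_single, Ne.symm ha, Ne.symm hb, wSgn, ha, Equiv.swap_apply_of_ne_of_ne ha hb]

theorem emb2_jSL_inv {k l : Fin m} (h : k ≠ l) :
    (emb2 k l (jSL : SL F))⁻¹.1 = (emb2 k l (jSL : SL F)).1ᵀ := by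
  have e : (jSL : SL F)⁻¹ = low 1 * up (-1) * low 1 := inv_eq_of_mul_eq_one_right (by
    apply ext2 <;> simp [mul_apply2, jSL_coe, up_val, low_val])
  rw [← map_inv, e, map_mul, map_mul, emb2_low h, emb2_up h, emb2_jSL h]
  show Matrix.transvection l k (1 : F) * Matrix.transvection k l (-1) * Matrix.transvection l k 1 =
    (Matrix.transvection k l (1 : F) * Matrix.transvection l k (-1) * Matrix.transvection k l 1)ᵀ
  simp [Matrix.transvection, Matrix.transpose_mul, Matrix.mul_assoc]

theorem congr'_jSL {k l : Fin m} (h : k ≠ l) (a b : Fin m) (c : F) :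
    congr' (emb2 k l (jSL : SL F)).1 (Matrix.single a b c) =
      Matrix.single (Equiv.swap k l a) (Equiv.swap k l b) (wSgn k a * wSgn k b * c) := by
  have e : Matrix.single (Equiv.swap k l a) b (wSgn k a * c) * (emb2 k l (jSL : SL F)).1ᵀ =
      ((emb2 k l (jSL : SL F)).1 * Matrix.single b (Equiv.swap k l a) (wSgn k a * c))ᵀ := by
    rw [Matrix.transpose_mul, Matrix.transpose_single]
  rw [congr', emb2_jSL_mul_single h, e, emb2_jSL_mul_single h, Matrix.transpose_single]
  congr 1
  ring

theorem congr'_jSL_invT {k l : Fin m} (h : k ≠ l) (a b : Fin m) (c : F) :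
    congr' (emb2 k l (jSL : SL F))⁻¹.1ᵀ (Matrix.single a b c) =
      Matrix.single (Equiv.swap k l a) (Equiv.swap k l b) (wSgn k a * wSgn k b * c) := by
  rw [emb2_jSL_inv h, Matrix.transpose_transpose, congr'_jSL h]

theorem conj_transvection_jSL {k l : Fin m} (h : k ≠ l) {a b : Fin m} (hab : a ≠ b) (c : F) :
    emb2 k l (jSL : SL F) * SpecialLinearGroup.transvection hab c * (emb2 k l (jSL : SL F))⁻¹ =
      SpecialLinearGroup.transvection ((Equiv.swap k l).injective.ne hab) (wSgn k a * wSgn k b * c) := by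
  apply Subtype.ext
  show (emb2 k l (jSL : SL F)).1 * Matrix.transvection a b c * (emb2 k l (jSL : SL F))⁻¹.1 =
    Matrix.transvection _ _ _
  rw [emb2_jSL_inv h, Matrix.transvection, Matrix.mul_add, Matrix.mul_one, Matrix.add_mul]
  have e := congr'_jSL h a b c
  rw [congr'] at e
  rw [e, ← emb2_jSL_inv h, sl_mul_inv_val]
  rfl

theorem slEmbed_inj {n₁ n₂ : Type*} [Fintype n₁] [DecidableEq n₁] [Fintype n₂] [DecidableEq n₂] (f : n₁ → n₂)
    (hf : Function.Injective f) : Function.Injective (slEmbed (R := F) f hf) := fun A B h => by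
  have h' := congrArg (fun X => (incMat F f)ᵀ * ((X : SpecialLinearGroup n₂ F).1 - 1) * incMat F f) h
  simp only [slEmbed_coe, add_sub_cancel_left] at h'
  have e : ∀ X : Matrix n₁ n₁ F, (incMat F f)ᵀ * (incMat F f * X * (incMat F f)ᵀ) * incMat F f = X := fun X => by
    rw [← Matrix.mul_assoc, ← Matrix.mul_assoc, incMat_transpose_mul f hf, Matrix.one_mul, Matrix.mul_assoc,
      incMat_transpose_mul f hf, Matrix.mul_one]
  rw [e, e, sub_left_inj] at h'
  exact Subtype.ext h'

theorem emb2_injective {k l : Fin m} (h : k ≠ l) : Function.Injective (emb2 (F := F) k l) := by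
  rw [emb2, dif_pos h]; exact slEmbed_inj _ _

end CfsgLib.SpPres
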