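import Cfsg.Agent.Lib.KnownB.SLPres.Pair

/-!
# Injectivity from a torus, root groups and rank one subgroups

A group `P` generated by a torus and simple rank one subgroups, with root groups permuted by the simple
reflections as the roots are, is mapped injectively to `G` as soon as the map is injective on the
positive root groups times the torus.
-/

set_option autoImplicit false
set_option linter.unusedSectionVars false

open CfsgLib.Perm.Quad.SL2 CfsgLib.SL2Pres CfsgLib.SLPres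

namespace CfsgLib.SpPres

variable {F : Type*} [Field F] {P G : Type*} [Group P] [Group G] {Φ Δ : Type*}

theorem conj_closure_le {S : Set P} {H : Subgroup P} {c : P} (h : ∀ g ∈ S, c * g * c⁻¹ ∈ H) :
    ∀ g ∈ Subgroup.closure S, c * g * c⁻¹ ∈ H := by
  intro g hg
  have : Subgroup.closure S ≤ H.comap (MulAut.conj c).toMonoidHom := (Subgroup.closure_le _).2 h
  exact this hg

/-- The hypotheses. -/
structure BN (π : P →* G) (neg : Φ → Φ) (pos : Φ → Prop) (a : Δ → Φ) (s : Δ → Equiv.Perm Φ)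
    (x : Φ → F → P) (L : Δ → SL F →* P) (T : Subgroup P) : Prop where
  neg_neg : ∀ r, neg (neg r) = r
  pos_neg : ∀ r, pos (neg r) ↔ ¬ pos r
  pos_simple : ∀ d, pos (a d)
  s_simple : ∀ d, s d (a d) = neg (a d)
  s_pos : ∀ d r, pos r → r ≠ a d → pos (s d r)
  s_neg : ∀ d r, s d (neg r) = neg (s d r)
  s_s : ∀ d r, s d (s d r) = r
  add : ∀ r t u, x r (t + u) = x r t * x r u
  L_up : ∀ d t, L d (up t) = x (a d) t
  L_low : ∀ d t, L d (low t) = x (neg (a d)) t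
  n_conj : ∀ d r t, ∃ t', L d jSL * x r t * (L d jSL)⁻¹ = x (s d r) t'
  T_conj : ∀ τ ∈ T, ∀ r t, ∃ t', τ * x r t * τ⁻¹ = x r t'
  T_n : ∀ d, ∀ τ ∈ T, L d jSL * τ * (L d jSL)⁻¹ ∈ T
  T_dg : ∀ d (c : F) (hc : c ≠ 0), L d (dg c hc) ∈ T
  simple_conj : ∀ d r t u, pos r → r ≠ a d →
    x (a d) t * x r u * (x (a d) t)⁻¹ ∈ Subgroup.closure {z | ∃ r u, pos r ∧ r ≠ a d ∧ z = x r u}
  inj_L : ∀ d, Function.Injective fun z => π (L d z)
  inj_B : ∀ u ∈ Subgroup.closure {z | ∃ r u, pos r ∧ z = x r u}, ∀ τ ∈ T, π (u * τ) = 1 → u = 1 ∧ τ = 1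
  sep : ∀ r r', r ≠ r' → ∀ t t', π (x r t) = π (x r' t') → t = 0
  sep_neg : ∀ r t, ¬ pos r →
    π (x r t) ∈ (Subgroup.closure {z | ∃ r u, pos r ∧ z = x r u}).map π → t = 0
  gen : Subgroup.closure ({z | ∃ d t, z = x (a d) t ∨ z = x (neg (a d)) t} ∪ (T : Set P)) = ⊤

variable {π : P →* G} {neg : Φ → Φ} {pos : Φ → Prop} {a : Δ → Φ} {s : Δ → Equiv.Perm Φ} {x : Φ → F → P}
  {L : Δ → SL F →* P} {T : Subgroup P}

/-- The product of the representatives along a word. -/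
def nW (L : Δ → SL F →* P) (w : List Δ) : P := (w.map fun d => L d jSL).prod

/-- The product of the reflections along a word. -/
def sW (s : Δ → Equiv.Perm Φ) (w : List Δ) : Equiv.Perm Φ := (w.map s).prod

theorem nW_append (u v : List Δ) : nW L (u ++ v) = nW L u * nW L v := by simp [nW]

theorem nW_cons (d : Δ) (v : List Δ) : nW L (d :: v) = L d jSL * nW L v := by simp [nW]

theorem sW_append (u v : List Δ) : sW s (u ++ v) = sW s u * sW s v := by simp [sW]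

theorem sW_cons (d : Δ) (v : List Δ) : sW s (d :: v) = s d * sW s v := by simp [sW]

variable (H : BN π neg pos a s x L T)
include H

theorem BN.x_zero (r : Φ) : x r 0 = 1 := by
  have := H.add r 0 0
  rwa [add_zero, left_eq_mul] at this

theorem BN.x_inv (r : Φ) (t : F) : (x r t)⁻¹ = x r (-t) :=
  inv_eq_of_mul_eq_one_right (by rw [← H.add, add_neg_cancel, H.x_zero])

theorem BN.neg_ne (r : Φ) : neg r ≠ r := fun e => by
  have := H.pos_neg r
  rw [e] at this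
  exact iff_not_self this

theorem BN.ne_one {r : Φ} {t : F} (h : π (x r t) = 1) : t = 0 :=
  H.sep r (neg r) (H.neg_ne r).symm t 0 (by rw [h, H.x_zero, map_one])

theorem BN.jj_eq (d : Δ) :
    L d jSL * L d jSL = L d (dg (-1) (neg_ne_zero.2 one_ne_zero)) := by
  rw [← map_mul]
  congr 1
  apply ext2 <;> simp [mul_apply2, jSL_coe, dg_val]

theorem BN.n_conj_inv (d : Δ) (r : Φ) (t : F) :
    ∃ t', (L d jSL)⁻¹ * x r t * L d jSL = x (s d r) t' := by
  have hT := H.T_dg d (-1) (neg_ne_zero.2 one_ne_zero)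
  rw [← H.jj_eq] at hT
  obtain ⟨t₁, h₁⟩ := H.T_conj _ (inv_mem hT) r t
  obtain ⟨t₂, h₂⟩ := H.n_conj d r t₁
  refine ⟨t₂, ?_⟩
  rw [← h₂, ← h₁]
  group

theorem BN.T_n_inv (d : Δ) {τ : P} (hτ : τ ∈ T) : (L d jSL)⁻¹ * τ * L d jSL ∈ T := by
  have hT := H.T_dg d (-1) (neg_ne_zero.2 one_ne_zero)
  rw [← H.jj_eq] at hT
  have := H.T_n d _ (mul_mem (mul_mem (inv_mem hT) hτ) hT)
  convert this using 1
  group

theorem BN.nW_conj (w : List Δ) : ∀ r t, ∃ t', nW L w * x r t * (nW L w)⁻¹ = x (sW s w r) t' := by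
  induction w with
  | nil => exact fun r t => ⟨t, by simp [nW, sW]⟩
  | cons d v ih =>
    intro r t
    obtain ⟨t₁, h₁⟩ := ih r t
    obtain ⟨t₂, h₂⟩ := H.n_conj d (sW s v r) t₁
    refine ⟨t₂, ?_⟩
    rw [nW_cons, sW_cons, Equiv.Perm.mul_apply, ← h₂, ← h₁]
    group

theorem BN.nW_conj_inv (w : List Δ) : ∀ r t, ∃ t', (nW L w)⁻¹ * x r t * nW L w = x ((sW s w)⁻¹ r) t' := by
  induction w with
  | nil => exact fun r t => ⟨t, by simp [nW, sW]⟩
  | cons d v ih =>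
    intro r t
    obtain ⟨t₁, h₁⟩ := H.n_conj_inv d r t
    obtain ⟨t₂, h₂⟩ := ih (s d r) t₁
    refine ⟨t₂, ?_⟩
    have e : (sW s (d :: v))⁻¹ r = (sW s v)⁻¹ (s d r) := by
      rw [sW_cons, _root_.mul_inv_rev, Equiv.Perm.mul_apply,
        Equiv.Perm.inv_eq_iff_eq.2 (H.s_s d r).symm]
    rw [e, ← h₂, ← h₁, nW_cons]
    group

theorem BN.nW_T (w : List Δ) : ∀ τ ∈ T, nW L w * τ * (nW L w)⁻¹ ∈ T := by
  induction w with
  | nil => intro τ hτ; simpa [nW] using hτ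
  | cons d v ih =>
    intro τ hτ
    have := H.T_n d _ (ih τ hτ)
    rw [nW_cons]
    convert this using 1
    group

theorem BN.nW_T_inv (w : List Δ) : ∀ τ ∈ T, (nW L w)⁻¹ * τ * nW L w ∈ T := by
  induction w with
  | nil => intro τ hτ; simpa [nW] using hτ
  | cons d v ih =>
    intro τ hτ
    have := ih _ (H.T_n_inv d hτ)
    rw [nW_cons]
    convert this using 1
    group

theorem BN.sW_neg (w : List Δ) (r : Φ) : sW s w (neg r) = neg (sW s w r) := by
  induction w with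
  | nil => simp [sW]
  | cons d v ih => rw [sW_cons, Equiv.Perm.mul_apply, ih, H.s_neg, Equiv.Perm.mul_apply]

/-- Equal representatives give equal permutations. -/
theorem BN.sW_eq {w w' : List Δ} {τ : P} (hτ : τ ∈ T) (e : nW L w = nW L w' * τ) : sW s w = sW s w' := by
  refine Equiv.ext fun r => ?_
  by_contra hne
  obtain ⟨t, ht⟩ := H.nW_conj w r 1
  obtain ⟨t₁, ht₁⟩ := H.T_conj τ hτ r 1
  obtain ⟨t₂, ht₂⟩ := H.nW_conj w' r t₁
  have h3 : x (sW s w r) t = x (sW s w' r) t₂ := by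
    rw [← ht, ← ht₂, ← ht₁, e]
    group
  have h4 := H.sep _ _ hne t t₂ (congrArg π h3)
  rw [h4, H.x_zero] at ht
  have : x r 1 = 1 := by
    have h5 := congrArg (fun z => (nW L w)⁻¹ * z * nW L w) ht
    simpa [mul_assoc] using h5
  exact one_ne_zero (H.ne_one (r := r) (t := 1) (by rw [this, map_one]))

/-- An element of the rank one group exchanging the two root groups represents the reflection. -/
theorem BN.exchange (i : Δ) (z : SL F) {t t' : F} (h1 : L i z * x (a i) 1 * (L i z)⁻¹ = x (neg (a i)) t)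
    (h2 : L i z * x (neg (a i)) 1 * (L i z)⁻¹ = x (a i) t') : ∃ τ ∈ T, L i z = L i jSL * τ := by
  rw [← H.L_up, ← H.L_low, ← map_inv, ← map_mul, ← map_mul] at h1 h2
  have e1 : z * up 1 * z⁻¹ = low t := H.inj_L i (congrArg π h1)
  have e2 : z * low 1 * z⁻¹ = up t' := H.inj_L i (congrArg π h2)
  rw [mul_inv_eq_iff_eq_mul] at e1 e2
  have a00 := congrArg (fun g : SL F => g.1 0 1) e1
  have a11 := congrArg (fun g : SL F => g.1 1 0) e2
  simp only [mul_apply2, up_val, low_val] at a00 a11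
  simp at a00 a11
  have hd := det2 z
  rw [a00, a11] at hd
  have h10 : z.1 1 0 ≠ 0 := fun e => by simp [e] at hd
  refine ⟨L i (dg (-z.1 1 0) (neg_ne_zero.2 h10)), H.T_dg _ _ _, ?_⟩
  rw [← map_mul]
  congr 1
  apply ext2 <;> simp [mul_apply2, jSL_coe, dg_val, a00, a11]
  field_simp
  linear_combination -hd

/-- The reflection can be moved through a word. -/
theorem BN.braid {i m : Δ} {v : List Δ} (h : sW s v (a m) = a i) :
    ∃ τ ∈ T, nW L v * L m jSL * (nW L v)⁻¹ = L i jSL * τ := by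
  set c := nW L v
  have hup : ∀ t, ∃ t', c * L m (up t) * c⁻¹ = L i (up t') := fun t => by
    obtain ⟨t', ht⟩ := H.nW_conj v (a m) t
    exact ⟨t', by rw [H.L_up, ht, h, H.L_up]⟩
  have hlow : ∀ t, ∃ t', c * L m (low t) * c⁻¹ = L i (low t') := fun t => by
    obtain ⟨t', ht⟩ := H.nW_conj v (neg (a m)) t
    exact ⟨t', by rw [H.L_low, ht, H.sW_neg, h, H.L_low]⟩
  have hrange : ((L i).range.comap ((MulAut.conj c).toMonoidHom.comp (L m))) = ⊤ :=
    eq_top_of_up_low (fun t => by obtain ⟨t', ht⟩ := hup t; exact ⟨_, ht.symm⟩)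
      fun t => by obtain ⟨t', ht⟩ := hlow t; exact ⟨_, ht.symm⟩
  obtain ⟨z, hz⟩ := hrange.ge (Subgroup.mem_top jSL)
  change L i z = c * L m jSL * c⁻¹ at hz
  suffices e : ∀ r : Φ, r = a m ∨ r = neg (a m) → ∃ t, L i z * x (sW s v r) 1 * (L i z)⁻¹ = x (sW s v (neg r)) t by
    obtain ⟨t, h1⟩ := e _ (Or.inl rfl)
    obtain ⟨t', h2⟩ := e _ (Or.inr rfl)
    rw [H.sW_neg, h] at h1
    rw [H.neg_neg, H.sW_neg, h] at h2
    obtain ⟨τ, hτ, e⟩ := H.exchange i z h1 h2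
    exact ⟨τ, hτ, hz.symm.trans e⟩
  intro r hr
  obtain ⟨t₁, ht₁⟩ := H.nW_conj_inv v (sW s v r) 1
  rw [Equiv.Perm.inv_eq_iff_eq.2 (rfl : sW s v r = sW s v r)] at ht₁
  obtain ⟨t₂, ht₂⟩ := H.n_conj m r t₁
  have hs : s m r = neg r := by
    rcases hr with rfl | rfl
    · exact H.s_simple m
    · rw [H.s_neg, H.s_simple]
  rw [hs] at ht₂
  obtain ⟨t₃, ht₃⟩ := H.nW_conj v (neg r) t₂
  refine ⟨t₃, ?_⟩
  rw [← ht₃, ← ht₂, ← ht₁, hz]
  simp only [c]
  group

omit H in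
theorem exists_split_pos (f : Δ → Equiv.Perm Φ) (P' : Φ → Prop) : ∀ (w : List Δ) (r : Φ), P' r → ¬ P' (sW f w r) →
    ∃ u i v, w = u ++ i :: v ∧ P' (sW f v r) ∧ ¬ P' (f i (sW f v r)) := by
  intro w
  induction w with
  | nil => intro r h1 h2; simp [sW] at h2; exact absurd h1 h2
  | cons d v ih =>
    intro r h1 h2
    by_cases h : P' (sW f v r)
    · exact ⟨[], d, v, rfl, h, by rwa [sW_cons, Equiv.Perm.mul_apply] at h2⟩
    · obtain ⟨u, i, v', rfl, e1, e2⟩ := ih r h1 h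
      exact ⟨d :: u, i, v', rfl, e1, e2⟩

/-- A representative preserving the positive roots lies in the torus. -/
theorem BN.descent : ∀ (n : ℕ) (w : List Δ), w.length = n → (∀ r, pos r → pos (sW s w r)) → nW L w ∈ T := by
  intro n
  induction n using Nat.strong_induction_on with
  | _ n ih =>
    intro w hlen hw
    rcases List.eq_nil_or_concat w with rfl | ⟨w', m, rfl⟩
    · simp [nW]
    rw [List.concat_eq_append] at *
    have h1 := hw _ (H.pos_simple m)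
    rw [sW_append, Equiv.Perm.mul_apply, show sW s [m] = s m by simp [sW], H.s_simple, H.sW_neg, H.pos_neg] at h1
    obtain ⟨u, i, v, rfl, h2, h3⟩ := exists_split_pos s pos w' (a m) (H.pos_simple m) h1
    have hvi : sW s v (a m) = a i := by
      by_contra hne
      exact h3 (H.s_pos i _ h2 hne)
    obtain ⟨τ, hτ, hτe⟩ := H.braid hvi
    have hjj := H.T_dg i (-1) (neg_ne_zero.2 one_ne_zero)
    rw [← H.jj_eq] at hjj
    set τ₁ := L i jSL * L i jSL * τ
    have hτ₁ : τ₁ ∈ T := mul_mem hjj hτ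
    have e : nW L (u ++ i :: v ++ [m]) = nW L (u ++ v) * ((nW L v)⁻¹ * τ₁ * nW L v) := by
      simp only [nW_append, nW_cons, show nW L [m] = L m jSL by simp [nW]]
      rw [mul_inv_eq_iff_eq_mul] at hτe
      simp only [τ₁, mul_assoc, hτe, mul_inv_cancel_left]
    have hτ' := H.nW_T_inv v τ₁ hτ₁
    have hσ := H.sW_eq hτ' e
    rw [e]
    refine mul_mem (ih _ ?_ (u ++ v) rfl fun r hr => ?_) hτ'
    · simp at hlen ⊢; omega
    · rw [← hσ]; exact hw r hr

omit H in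
/-- The elements `b n b'`. -/
def InZ (pos : Φ → Prop) (x : Φ → F → P) (L : Δ → SL F →* P) (T : Subgroup P) (p : P) : Prop :=
  ∃ w, ∃ b ∈ Subgroup.closure {z | ∃ r u, pos r ∧ z = x r u} ⊔ T,
    ∃ b' ∈ Subgroup.closure {z | ∃ r u, pos r ∧ z = x r u} ⊔ T, p = b * nW L w * b'

theorem BN.T_U {τ : P} (hτ : τ ∈ T) : ∀ g ∈ Subgroup.closure {z | ∃ r u, pos r ∧ z = x r u},
    τ * g * τ⁻¹ ∈ Subgroup.closure {z | ∃ r u, pos r ∧ z = x r u} := by
  refine conj_closure_le ?_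
  rintro _ ⟨r, u, hr, rfl⟩
  obtain ⟨t, ht⟩ := H.T_conj τ hτ r u
  exact Subgroup.subset_closure ⟨r, t, hr, ht⟩

theorem BN.mem_B {b : P} (hb : b ∈ Subgroup.closure {z | ∃ r u, pos r ∧ z = x r u} ⊔ T) :
    ∃ u ∈ Subgroup.closure {z | ∃ r u, pos r ∧ z = x r u}, ∃ τ ∈ T, b = u * τ := by
  set U := Subgroup.closure {z | ∃ r u, pos r ∧ z = x r u}
  rw [Subgroup.sup_eq_closure] at hb
  induction hb using Subgroup.closure_induction with
  | mem b hb =>
    rcases hb with hb | hb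
    · exact ⟨b, hb, 1, one_mem _, (mul_one b).symm⟩
    · exact ⟨1, one_mem _, b, hb, (one_mul b).symm⟩
  | one => exact ⟨1, one_mem _, 1, one_mem _, (one_mul 1).symm⟩
  | mul p q _ _ hp hq =>
    obtain ⟨u, hu, τ, hτ, rfl⟩ := hp
    obtain ⟨u', hu', τ', hτ', rfl⟩ := hq
    exact ⟨u * (τ * u' * τ⁻¹), mul_mem hu (H.T_U hτ _ hu'), τ * τ', mul_mem hτ hτ', by group⟩
  | inv p _ hp =>
    obtain ⟨u, hu, τ, hτ, rfl⟩ := hp
    exact ⟨τ⁻¹ * u⁻¹ * τ⁻¹⁻¹, H.T_U (inv_mem hτ) _ (inv_mem hu), τ⁻¹, inv_mem hτ, by group⟩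

theorem BN.mem_U_split (d : Δ) {u : P} (hu : u ∈ Subgroup.closure {z | ∃ r u, pos r ∧ z = x r u}) :
    ∃ u' ∈ Subgroup.closure {z | ∃ r u, pos r ∧ r ≠ a d ∧ z = x r u}, ∃ t, u = u' * x (a d) t := by
  induction hu using Subgroup.closure_induction with
  | mem b hb =>
    obtain ⟨r, t, hr, rfl⟩ := hb
    by_cases h : r = a d
    · subst h; exact ⟨1, one_mem _, t, (one_mul _).symm⟩
    · exact ⟨_, Subgroup.subset_closure ⟨r, t, hr, h, rfl⟩, 0, by rw [H.x_zero, mul_one]⟩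
  | one => exact ⟨1, one_mem _, 0, by rw [H.x_zero, mul_one]⟩
  | mul p q _ _ hp hq =>
    obtain ⟨u, hu, t, rfl⟩ := hp
    obtain ⟨u', hu', t', rfl⟩ := hq
    refine ⟨u * (x (a d) t * u' * (x (a d) t)⁻¹), mul_mem hu (conj_closure_le ?_ _ hu'), t + t', ?_⟩
    · rintro _ ⟨r, v, hr, hne, rfl⟩; exact H.simple_conj d r t v hr hne
    · rw [H.add]; group
  | inv p _ hp =>
    obtain ⟨u, hu, t, rfl⟩ := hp
    refine ⟨x (a d) (-t) * u⁻¹ * (x (a d) (-t))⁻¹, conj_closure_le ?_ _ (inv_mem hu), -t, ?_⟩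
    · rintro _ ⟨r, v, hr, hne, rfl⟩; exact H.simple_conj d r _ v hr hne
    · rw [← H.x_inv]; group

theorem BN.n_U' (d : Δ) {u : P} (hu : u ∈ Subgroup.closure {z | ∃ r u, pos r ∧ r ≠ a d ∧ z = x r u}) :
    L d jSL * u * (L d jSL)⁻¹ ∈ Subgroup.closure {z | ∃ r u, pos r ∧ z = x r u} := by
  refine conj_closure_le ?_ u hu
  rintro _ ⟨r, v, hr, hne, rfl⟩
  obtain ⟨t, ht⟩ := H.n_conj d r v
  exact Subgroup.subset_closure ⟨_, t, H.s_pos d r hr hne, ht⟩

theorem BN.low_Z (d : Δ) (t : F) (w : List Δ) : InZ pos x L T (x (neg (a d)) t * nW L w) := by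
  by_cases hp : pos ((sW s w)⁻¹ (neg (a d)))
  · obtain ⟨t', ht⟩ := H.nW_conj_inv w (neg (a d)) t
    refine ⟨w, 1, one_mem _, x ((sW s w)⁻¹ (neg (a d))) t',
      Subgroup.mem_sup_left (Subgroup.subset_closure ⟨_, _, hp, rfl⟩), ?_⟩
    rw [← ht]
    group
  · by_cases ht : t = 0
    · exact ⟨w, 1, one_mem _, 1, one_mem _, by simp [ht, H.x_zero]⟩
    have hp' : pos ((sW s w)⁻¹ (a d)) := by
      by_contra h
      apply hp
      have : (sW s w)⁻¹ (neg (a d)) = neg ((sW s w)⁻¹ (a d)) := by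
        rw [Equiv.Perm.inv_eq_iff_eq, H.sW_neg, ← Equiv.Perm.mul_apply, mul_inv_cancel, Equiv.Perm.one_apply]
      rw [this, H.pos_neg]
      exact h
    have e : low t = up t⁻¹ * jSL * dg (-t) (neg_ne_zero.2 ht) * up t⁻¹ := by
      apply ext2 <;> simp [mul_apply2, up_val, low_val, jSL_coe, dg_val] <;> field_simp <;> ring
    obtain ⟨t', ht'⟩ := H.nW_conj_inv w (a d) t⁻¹
    have hτ := H.nW_T_inv w _ (H.T_dg d (-t) (neg_ne_zero.2 ht))
    refine ⟨d :: w, x (a d) t⁻¹, Subgroup.mem_sup_left (Subgroup.subset_closure ⟨_, _, H.pos_simple d, rfl⟩),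
      _, mul_mem (Subgroup.mem_sup_right hτ)
        (Subgroup.mem_sup_left (Subgroup.subset_closure ⟨_, t', hp', rfl⟩)), ?_⟩
    rw [← ht', ← H.L_low, e, map_mul, map_mul, map_mul, H.L_up, nW_cons]
    group

theorem BN.Z_left {b : P} (hb : b ∈ Subgroup.closure {z | ∃ r u, pos r ∧ z = x r u} ⊔ T) {p : P}
    (hp : InZ pos x L T p) : InZ pos x L T (b * p) := by
  obtain ⟨w, c, hc, c', hc', rfl⟩ := hp
  exact ⟨w, b * c, mul_mem hb hc, c', hc', by group⟩

theorem BN.Z_right {b : P} (hb : b ∈ Subgroup.closure {z | ∃ r u, pos r ∧ z = x r u} ⊔ T) {p : P}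
    (hp : InZ pos x L T p) : InZ pos x L T (p * b) := by
  obtain ⟨w, c, hc, c', hc', rfl⟩ := hp
  exact ⟨w, c, hc, c' * b, mul_mem hc' hb, by group⟩

theorem BN.Z_n (d : Δ) {p : P} (hp : InZ pos x L T p) : InZ pos x L T (L d jSL * p) := by
  obtain ⟨w, c, hc, c', hc', rfl⟩ := hp
  obtain ⟨u, hu, τ, hτ, rfl⟩ := H.mem_B hc
  obtain ⟨u', hu', t, rfl⟩ := H.mem_U_split d hu
  obtain ⟨t', ht⟩ := H.n_conj d (a d) t
  rw [H.s_simple] at ht
  set τ' := L d jSL * τ * (L d jSL)⁻¹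
  have hτ' : τ' ∈ T := H.T_n d τ hτ
  obtain ⟨t'', ht''⟩ := H.T_conj _ (inv_mem hτ') (neg (a d)) t'
  have key := H.Z_left (Subgroup.mem_sup_left (H.n_U' d hu'))
    (H.Z_left (Subgroup.mem_sup_right hτ') (H.Z_right hc' (H.low_Z d t'' (d :: w))))
  convert key using 1
  rw [← ht'', ← ht, nW_cons]
  simp only [τ']
  group

theorem BN.Z_all (p : P) : InZ pos x L T p := by
  have hs : ∀ d t, ∀ q, InZ pos x L T q →
      InZ pos x L T (x (a d) t * q) ∧ InZ pos x L T (x (neg (a d)) t * q) := fun d t q hq => by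
    refine ⟨H.Z_left (Subgroup.mem_sup_left (Subgroup.subset_closure ⟨_, t, H.pos_simple d, rfl⟩)) hq, ?_⟩
    obtain ⟨t₁, h₁⟩ := H.n_conj_inv d (neg (a d)) t
    rw [H.s_neg, H.s_simple, H.neg_neg] at h₁
    have hj := H.T_dg d (-1) (neg_ne_zero.2 one_ne_zero)
    rw [← H.jj_eq] at hj
    have key := H.Z_n d (H.Z_left
      (Subgroup.mem_sup_left (Subgroup.subset_closure ⟨_, t₁, H.pos_simple d, rfl⟩))
      (H.Z_n d (H.Z_left (Subgroup.mem_sup_right (inv_mem hj)) hq)))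
    convert key using 1
    rw [← h₁]
    group
  have hone : InZ pos x L T 1 := ⟨[], 1, one_mem _, 1, one_mem _, by simp [nW]⟩
  suffices ∀ q, InZ pos x L T q → InZ pos x L T (p * q) by simpa using this 1 hone
  have hp := H.gen.ge (Subgroup.mem_top p)
  have key : (∀ q, InZ pos x L T q → InZ pos x L T (p * q)) ∧ (∀ q, InZ pos x L T q → InZ pos x L T (p⁻¹ * q)) := by
    induction hp using Subgroup.closure_induction with
    | mem b hb =>
      rcases hb with ⟨d, t, rfl | rfl⟩ | hb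
      · exact ⟨fun q hq => (hs d t q hq).1, fun q hq => by rw [H.x_inv]; exact (hs d _ q hq).1⟩
      · exact ⟨fun q hq => (hs d t q hq).2, fun q hq => by rw [H.x_inv]; exact (hs d _ q hq).2⟩
      · exact ⟨fun q hq => H.Z_left (Subgroup.mem_sup_right hb) hq,
          fun q hq => H.Z_left (Subgroup.mem_sup_right (inv_mem hb)) hq⟩
    | one => simp
    | mul p₁ p₂ _ _ h₁ h₂ =>
      exact ⟨fun q hq => by rw [mul_assoc]; exact h₁.1 _ (h₂.1 q hq),
        fun q hq => by rw [_root_.mul_inv_rev, mul_assoc]; exact h₂.2 _ (h₁.2 q hq)⟩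
    | inv p₁ _ h => exact ⟨h.2, by simpa using h.1⟩
  exact key.1

/-- The map is injective. -/
theorem BN.injective : Function.Injective π := by
  rw [injective_iff_map_eq_one]
  intro p hp
  obtain ⟨w, b, hb, b', hb', rfl⟩ := H.Z_all p
  set c := b⁻¹ * b'⁻¹
  have hc : π (nW L w) = π c := by
    rw [map_mul, map_mul] at hp
    have h2 : π (nW L w) = (π b)⁻¹ * (π b')⁻¹ := by
      rw [eq_inv_mul_iff_mul_eq, ← mul_eq_one_iff_eq_inv]
      exact hp
    rw [h2, map_mul, map_inv, map_inv]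
  obtain ⟨u, hu, τ, hτ, hcu⟩ := H.mem_B (mul_mem (inv_mem hb) (inv_mem hb') : c ∈ _)
  have hw : ∀ r, pos r → pos (sW s w r) := fun r hr => by
    by_contra hneg
    obtain ⟨t, ht⟩ := H.nW_conj w r 1
    have hUc : c * x r 1 * c⁻¹ ∈ Subgroup.closure {z | ∃ r u, pos r ∧ z = x r u} := by
      obtain ⟨t₁, ht₁⟩ := H.T_conj τ hτ r 1
      rw [show c = u * τ from hcu, show u * τ * x r 1 * (u * τ)⁻¹ = u * (τ * x r 1 * τ⁻¹) * u⁻¹ by group, ht₁]
      exact mul_mem (mul_mem hu (Subgroup.subset_closure ⟨r, t₁, hr, rfl⟩)) (inv_mem hu)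
    have e : π (x (sW s w r) t) = π (c * x r 1 * c⁻¹) := by
      rw [← ht, map_mul, map_mul, map_mul, map_mul, map_inv, map_inv, hc]
    have h0 := H.sep_neg _ t hneg ⟨_, hUc, e.symm⟩
    rw [h0, H.x_zero, mul_inv_eq_one, mul_eq_left] at ht
    exact one_ne_zero (H.ne_one (r := r) (t := 1) (by rw [ht, map_one]))
  have hmem : b * nW L w * b' ∈ Subgroup.closure {z | ∃ r u, pos r ∧ z = x r u} ⊔ T :=
    mul_mem (mul_mem hb (Subgroup.mem_sup_right (H.descent _ w rfl hw))) hb'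
  obtain ⟨u₁, hu₁, τ₁, hτ₁, e⟩ := H.mem_B hmem
  obtain ⟨rfl, rfl⟩ := H.inj_B u₁ hu₁ τ₁ hτ₁ (by rw [← e]; exact hp)
  rw [e, one_mul]

end CfsgLib.SpPres
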