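import Cfsg.Agent.Lib.KnownB.SpPres.Recog
import Cfsg.Agent.Lib.KnownB.SLPres.Tietze

/-!
# Presentations of the symplectic group from one of the special linear group and finitely many words
-/

set_option autoImplicit false
set_option linter.unusedSectionVars false

open Matrix CfsgLib.Perm.Quad.SL2 CfsgLib.SL2Pres CfsgLib.SLPres CfsgLib.Classical CfsgLib.Presentations

namespace CfsgLib.SpPres

variable {F : Type*} [Field F] [Fintype F] {m : ℕ}

/-- Words in the two parts become relators. -/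
theorem pres_of_words (hm : 1 ≤ m) {g r : ℕ} {t : Fin g → SpecialLinearGroup (Fin m) F} (h : HasPres g r t ⊤)
    {w : F} {hw : w ≠ 0} {u : Fin 3 → SL F} (RL : Finset (FreeGroup (Fin 3))) (hRL : RL.card ≤ 7)
    (E : PresentedGroup (↑RL : Set (FreeGroup (Fin 3))) ≃* SL F) (hE : ∀ k, E (PresentedGroup.of k) = u k)
    (Rw : List (FreeGroup (SpecialLinearGroup (Fin m) F ⊕ SL F)))
    (hhold : ∀ x ∈ Rw, FreeGroup.lift
      (Sum.elim (⇑(leviHom (F := F) (m := m))) (⇑(mEmb (F := F) (⟨0, hm⟩ : Fin m)))) x = 1)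
    (hsys : ∀ (P : Type) [Group P] (φ : SpecialLinearGroup (Fin m) F →* P) (ℓ : SL F →* P)
      (π : P →* Matrix.symplecticGroup (Fin m) F), (∀ A, π (φ A) = leviHom A) →
      (∀ z, π (ℓ z) = mEmb (⟨0, hm⟩ : Fin m) z) →
      Subgroup.closure ((φ.range : Set P) ∪ (ℓ.range : Set P)) = ⊤ →
      (∀ x ∈ Rw, FreeGroup.lift (Sum.elim (⇑φ) (⇑ℓ)) x = 1) →
      ∃ M, SpSys hw M φ ∧ ∀ i z, π (M i z) = mEmb i z) :
    ∃ s : Fin (g + 3) → Matrix.symplecticGroup (Fin m) F, HasPres (g + 3) (r + 7 + Rw.length) s ⊤ := by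
  classical
  obtain ⟨hcl, RX, hRX, πX, hπXi, hπX⟩ := h
  have hπXs : Function.Surjective πX := MonoidHom.range_eq_top.1 ((range_eq_closure πX hπX).trans hcl)
  let eX := MulEquiv.ofBijective πX ⟨hπXi, hπXs⟩
  let i₀ : Fin m := ⟨0, hm⟩
  let s : Fin (g + 3) → Matrix.symplecticGroup (Fin m) F :=
    Fin.append (fun i => leviHom (t i)) fun k => mEmb i₀ (u k)
  let ι₁ : FreeGroup (Fin g) →* FreeGroup (Fin (g + 3)) := FreeGroup.lift fun i => FreeGroup.of (Fin.castAdd 3 i)
  let ι₂ : FreeGroup (Fin 3) →* FreeGroup (Fin (g + 3)) := FreeGroup.lift fun i => FreeGroup.of (Fin.natAdd g i)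
  have hsur₁ : ∀ A, ∃ x : FreeGroup (Fin g), eX (PresentedGroup.mk _ x) = A := fun A => by
    obtain ⟨y, hy⟩ := eX.surjective A
    obtain ⟨x, rfl⟩ := PresentedGroup.mk_surjective _ y
    exact ⟨x, hy⟩
  have hsur₂ : ∀ z, ∃ x : FreeGroup (Fin 3), E (PresentedGroup.mk _ x) = z := fun z => by
    obtain ⟨y, hy⟩ := E.surjective z
    obtain ⟨x, rfl⟩ := PresentedGroup.mk_surjective _ y
    exact ⟨x, hy⟩
  choose w₁ hw₁ using hsur₁
  choose w₂ hw₂ using hsur₂
  let tr : FreeGroup (SpecialLinearGroup (Fin m) F ⊕ SL F) →* FreeGroup (Fin (g + 3)) :=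
    FreeGroup.lift (Sum.elim (fun A => ι₁ (w₁ A)) fun z => ι₂ (w₂ z))
  let L := FreeGroup.lift s
  have hL₁ : ∀ x, L (ι₁ x) = leviHom (eX (PresentedGroup.mk _ x)) := by
    have : L.comp ι₁ = leviHom.comp (eX.toMonoidHom.comp (PresentedGroup.mk _)) :=
      FreeGroup.ext_hom _ _ fun i => by
        show L (ι₁ (FreeGroup.of i)) = leviHom (eX (PresentedGroup.of i))
        rw [show eX (PresentedGroup.of i) = t i from hπX i]
        simp [L, ι₁, s]
    exact fun x => DFunLike.congr_fun this x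
  have hL₂ : ∀ x, L (ι₂ x) = mEmb i₀ (E (PresentedGroup.mk _ x)) := by
    have : L.comp ι₂ = (mEmb i₀).comp (E.toMonoidHom.comp (PresentedGroup.mk _)) :=
      FreeGroup.ext_hom _ _ fun i => by
        show L (ι₂ (FreeGroup.of i)) = mEmb i₀ (E (PresentedGroup.of i))
        rw [hE]
        simp [L, ι₂, s]
    exact fun x => DFunLike.congr_fun this x
  have hLtr : ∀ x, L (tr x) = FreeGroup.lift (Sum.elim (⇑(leviHom (F := F) (m := m))) (⇑(mEmb (F := F) i₀))) x := by
    have : L.comp tr = FreeGroup.lift (Sum.elim (⇑(leviHom (F := F) (m := m))) (⇑(mEmb (F := F) i₀))) :=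
      FreeGroup.ext_hom _ _ fun a => by
        rcases a with A | z
        · simp only [MonoidHom.comp_apply, tr, FreeGroup.lift_apply_of, Sum.elim_inl, hL₁, hw₁]
        · simp only [MonoidHom.comp_apply, tr, FreeGroup.lift_apply_of, Sum.elim_inr, hL₂, hw₂]
    exact fun x => DFunLike.congr_fun this x
  let rels := RX.image ι₁ ∪ RL.image ι₂ ∪ (Rw.map tr).toFinset
  have hcard : rels.card ≤ r + 7 + Rw.length := by
    refine (Finset.card_union_le _ _).trans (Nat.add_le_add ((Finset.card_union_le _ _).trans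
      (Nat.add_le_add (Finset.card_image_le.trans hRX) (Finset.card_image_le.trans hRL)))
      ((List.toFinset_card_le _).trans ?_))
    rw [List.length_map]
  have hrel : ∀ x ∈ (↑rels : Set (FreeGroup (Fin (g + 3)))), L x = 1 := by
    intro x hx
    simp only [rels, Finset.coe_union, Set.mem_union, Finset.mem_coe, Finset.mem_image, List.mem_toFinset,
      List.mem_map] at hx
    rcases hx with (⟨y, hy, rfl⟩ | ⟨y, hy, rfl⟩) | ⟨y, hy, rfl⟩
    · rw [hL₁, PresentedGroup.one_of_mem (Finset.mem_coe.2 hy), map_one, map_one]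
    · rw [hL₂, PresentedGroup.one_of_mem (Finset.mem_coe.2 hy), map_one, map_one]
    · rw [hLtr]; exact hhold y hy
  let π := PresentedGroup.toGroup (rels := (↑rels : Set (FreeGroup (Fin (g + 3))))) (f := s) hrel
  have hπ : ∀ i, π (PresentedGroup.of i) = s i := fun i => PresentedGroup.toGroup.of hrel
  let q : FreeGroup (Fin (g + 3)) →* PresentedGroup (↑rels : Set (FreeGroup (Fin (g + 3)))) := PresentedGroup.mk _
  have hπq : ∀ x, π (q x) = L x := fun x => rfl
  have hq1 : ∀ x ∈ rels, q x = 1 := fun x hx => PresentedGroup.one_of_mem (Finset.mem_coe.2 hx)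
  let φX := PresentedGroup.toGroup (rels := (↑RX : Set (FreeGroup (Fin g))))
    (f := fun i => q (ι₁ (FreeGroup.of i))) fun x hx => by
      rw [show FreeGroup.lift (fun i => q (ι₁ (FreeGroup.of i))) = q.comp ι₁ from
        FreeGroup.ext_hom _ _ fun i => by simp]
      exact hq1 _ (Finset.mem_union_left _ (Finset.mem_union_left _ (Finset.mem_image_of_mem _ (Finset.mem_coe.1 hx))))
  let φL := PresentedGroup.toGroup (rels := (↑RL : Set (FreeGroup (Fin 3))))
    (f := fun i => q (ι₂ (FreeGroup.of i))) fun x hx => by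
      rw [show FreeGroup.lift (fun i => q (ι₂ (FreeGroup.of i))) = q.comp ι₂ from
        FreeGroup.ext_hom _ _ fun i => by simp]
      exact hq1 _ (Finset.mem_union_left _ (Finset.mem_union_right _ (Finset.mem_image_of_mem _ (Finset.mem_coe.1 hx))))
  let φ : SpecialLinearGroup (Fin m) F →* _ := φX.comp eX.symm.toMonoidHom
  let ℓ : SL F →* _ := φL.comp E.symm.toMonoidHom
  have hφX : ∀ x, φX (PresentedGroup.mk _ x) = q (ι₁ x) := by
    have : φX.comp (PresentedGroup.mk _) = q.comp ι₁ := FreeGroup.ext_hom _ _ fun i => by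
      show φX (PresentedGroup.of i) = _
      exact PresentedGroup.toGroup.of _
    exact fun x => DFunLike.congr_fun this x
  have hφL : ∀ x, φL (PresentedGroup.mk _ x) = q (ι₂ x) := by
    have : φL.comp (PresentedGroup.mk _) = q.comp ι₂ := FreeGroup.ext_hom _ _ fun i => by
      show φL (PresentedGroup.of i) = _
      exact PresentedGroup.toGroup.of _
    exact fun x => DFunLike.congr_fun this x
  have hφ : ∀ A, φ A = q (ι₁ (w₁ A)) := fun A => by
    show φX (eX.symm A) = _
    rw [← hφX, ← congrArg eX.symm (hw₁ A), eX.symm_apply_apply]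
  have hℓ : ∀ z, ℓ z = q (ι₂ (w₂ z)) := fun z => by
    show φL (E.symm z) = _
    rw [← hφL, ← congrArg E.symm (hw₂ z), E.symm_apply_apply]
  have hπφ : ∀ A, π (φ A) = leviHom A := fun A => by rw [hφ, hπq, hL₁, hw₁]
  have hπℓ : ∀ z, π (ℓ z) = mEmb i₀ z := fun z => by rw [hℓ, hπq, hL₂, hw₂]
  have hgen : Subgroup.closure ((φ.range : Set (PresentedGroup (↑rels : Set (FreeGroup (Fin (g + 3)))))) ∪
      (ℓ.range : Set (PresentedGroup (↑rels : Set (FreeGroup (Fin (g + 3))))))) = ⊤ := by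
    rw [eq_top_iff, ← PresentedGroup.closure_range_of, Subgroup.closure_le]
    rintro _ ⟨i, rfl⟩
    refine Subgroup.subset_closure ?_
    induction i using Fin.addCases with
    | left i =>
      refine Or.inl ⟨eX (PresentedGroup.of i), ?_⟩
      show φX (eX.symm (eX _)) = _
      rw [eX.symm_apply_apply]
      exact (PresentedGroup.toGroup.of _).trans (by simp [ι₁]; rfl)
    | right i =>
      refine Or.inr ⟨E (PresentedGroup.of i), ?_⟩
      show φL (E.symm (E _)) = _
      rw [E.symm_apply_apply]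
      exact (PresentedGroup.toGroup.of _).trans (by simp [ι₂]; rfl)
  have hwords : ∀ x ∈ Rw, FreeGroup.lift (Sum.elim (⇑φ) (⇑ℓ)) x = 1 := fun x hx => by
    have e : FreeGroup.lift (Sum.elim (⇑φ) (⇑ℓ)) = q.comp tr := FreeGroup.ext_hom _ _ fun a => by
      rcases a with A | z
      · simp only [MonoidHom.comp_apply, tr, FreeGroup.lift_apply_of, Sum.elim_inl, hφ]
      · simp only [MonoidHom.comp_apply, tr, FreeGroup.lift_apply_of, Sum.elim_inr, hℓ]
    rw [e]
    exact hq1 _ (Finset.mem_union_right _ (List.mem_toFinset.2 (List.mem_map_of_mem hx)))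
  clear_value φ ℓ
  obtain ⟨M, S, hM⟩ := hsys _ φ ℓ π hπφ hπℓ hgen hwords
  obtain ⟨hinj, hsurj⟩ := S.bijective π hM hπφ hm
  exact ⟨s, (range_eq_closure π hπ).symm.trans (MonoidHom.range_eq_top.2 hsurj), rels, hcard, π, hinj, hπ⟩

end CfsgLib.SpPres
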