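import Cfsg.Agent.Lib.KnownB.SpPres.Spread
import Cfsg.Agent.Lib.KnownB.SpPres.TargetRels

/-!
# The relations of a pair of coordinates as words
-/

set_option autoImplicit false
set_option linter.unusedSectionVars false

open Matrix CfsgLib.Perm.Quad.SL2 CfsgLib.SL2Pres CfsgLib.SLPres CfsgLib.Classical
open scoped commutatorElement

namespace CfsgLib.SpPres

variable {F : Type*} [Field F] {m : ℕ}

/-- The letters. -/
abbrev Lett (F : Type*) [Field F] (m : ℕ) := FreeGroup (SpecialLinearGroup (Fin m) F ⊕ SL F)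

/-- The word of a root element of the Levi part. -/
def yWord {i j : Fin m} (h : i ≠ j) (t : F) : Lett F m :=
  FreeGroup.of (Sum.inl (SpecialLinearGroup.transvection h t))

/-- The relations of an ordered pair as words. -/
def pairWords {w : F} (hw : w ≠ 0) {i j : Fin m} (h : i ≠ j) (Mi Mj : SL F → Lett F m) : List (Lett F m) :=
  [⁅Mi (up (1 : F)), yWord h (1 : F)⁆, ⁅Mj (low (1 : F)), yWord h (1 : F)⁆,
   Mi (dSL hw) * yWord h (1 : F) * (Mi (dSL hw))⁻¹ * (yWord h w)⁻¹,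
   FreeGroup.of (Sum.inl (emb2 i j (dSL hw))) * (Mi (dSL hw) * (Mj (dSL hw))⁻¹)⁻¹,
   ⁅yWord h.symm (1 : F), Mi (up (1 : F))⁆ * (Mj jSL * yWord h (-1 * 1 : F) * (Mj jSL)⁻¹ * Mj (up (1 : F)))⁻¹,
   Mj jSL * yWord h (-1 * 1 : F) * (Mj jSL)⁻¹ * (Mi jSL * yWord h.symm (-1 * 1 : F) * (Mi jSL)⁻¹)⁻¹,
   ⁅yWord h (-1 : F), Mi (low (1 : F))⁆ * (Mj jSL * yWord h.symm (-(1 * 1) : F) * (Mj jSL)⁻¹ * Mj (low (1 : F)))⁻¹,
   Mj jSL * yWord h.symm (-(1 * 1) : F) * (Mj jSL)⁻¹ * (Mi jSL * yWord h (-(1 * 1) : F) * (Mi jSL)⁻¹)⁻¹]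

theorem pairWords_length {w : F} (hw : w ≠ 0) {i j : Fin m} (h : i ≠ j) (Mi Mj : SL F → Lett F m) :
    (pairWords hw h Mi Mj).length = 8 := rfl

theorem pairWords_iff {P : Type*} [Group P] {w : F} (hw : w ≠ 0) {i j : Fin m} (h : i ≠ j)
    (Mi Mj : SL F → Lett F m) (φ : SpecialLinearGroup (Fin m) F →* P) (ℓ : SL F →* P)
    (M : Fin m → SL F →* P) (hi : ∀ z, FreeGroup.lift (Sum.elim (⇑φ) (⇑ℓ)) (Mi z) = M i z)
    (hj : ∀ z, FreeGroup.lift (Sum.elim (⇑φ) (⇑ℓ)) (Mj z) = M j z) :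
    (∀ x ∈ pairWords hw h Mi Mj, FreeGroup.lift (Sum.elim (⇑φ) (⇑ℓ)) x = 1) ↔ PairRel hw M φ i j := by
  have hy : ∀ {a b : Fin m} (h : a ≠ b) (t : F),
      FreeGroup.lift (Sum.elim (⇑φ) (⇑ℓ)) (yWord h t) = yTr φ a b t := fun h t => by
    rw [yWord, FreeGroup.lift_apply_of, Sum.elim_inl, yTr_eq φ h]
  simp only [pairWords, List.forall_mem_cons, List.not_mem_nil, IsEmpty.forall_iff, implies_true, and_true,
    map_mul, map_inv, map_commutatorElement, hi, hj, hy, FreeGroup.lift_apply_of, Sum.elim_inl,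
    commutatorElement_eq_one_iff_commute, mul_inv_eq_one]
  exact ⟨fun ⟨a, b, c, d, e, f, g, k⟩ => ⟨a, b, c, d, e, f, g, k⟩,
    fun R => ⟨R.upY, R.lowY, R.scale, R.torus, R.baseUp, R.symUp, R.baseLow, R.symLow⟩⟩

theorem sp_pairRel {w : F} (hw : w ≠ 0) {i j : Fin m} (h : i ≠ j) :
    PairRel hw (mEmb (F := F)) (leviHom (F := F) (m := m)) i j where
  upY := sp_upY h 1 1
  lowY := sp_lowY h 1 1
  scale := by rw [sp_scale₁ hw h, mul_one]
  torus := sp_torus hw h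
  baseUp := sp_baseUp h
  symUp := sp_symUp h
  baseLow := sp_baseLow h
  symLow := sp_symLow h

end CfsgLib.SpPres
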