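import Cfsg.Agent.Lib.KnownB.SpPres.Assemble
import Cfsg.Agent.Lib.KnownB.SpPres.Monomial
import Cfsg.Agent.Lib.KnownB.SpPres.PairWords

/-!
# Presentations of the symplectic groups of dimension at least six
-/

set_option autoImplicit false
set_option linter.unusedSectionVars false

open Matrix CfsgLib.Perm.Quad.SL2 CfsgLib.SL2Pres CfsgLib.SLPres CfsgLib.Classical CfsgLib.Presentations
open scoped commutatorElement

namespace CfsgLib.SpPres

variable {F : Type*} [Field F] {m : ℕ}

theorem monSL_congr_single (hm : 3 ≤ m) (σ : Equiv.Perm (Fin m)) (k : Fin m) (t : F) :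
    congr' (monSL hm σ).1 (Matrix.single k k t) = Matrix.single (σ k) (σ k) t := by
  show congr' (monMat σ) _ = _
  rw [congr'_monMat, monSgn_sq, one_mul]

theorem monSL_swap_zero (hm : 3 ≤ m) :
    monSL (F := F) hm (Equiv.swap (⟨0, by omega⟩ : Fin m) ⟨0, by omega⟩) = 1 := by
  apply Subtype.ext
  show monMat _ = 1
  ext a b
  simp [monMat, monSgn, Matrix.one_apply]

theorem exists_pair_perm (hm : 3 ≤ m) {i j : Fin m} (h : i ≠ j) :
    ∃ σ : Equiv.Perm (Fin m), σ ⟨0, by omega⟩ = i ∧ σ ⟨1, by omega⟩ = j := by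
  let a : Fin m := ⟨0, by omega⟩
  let b : Fin m := ⟨1, by omega⟩
  have hab : a ≠ b := by simp [a, b, Fin.ext_iff]
  refine ⟨Equiv.swap (Equiv.swap a i b) j * Equiv.swap a i, ?_, ?_⟩
  · show Equiv.swap (Equiv.swap a i b) j (Equiv.swap a i a) = i
    rw [Equiv.swap_apply_left]
    refine Equiv.swap_apply_of_ne_of_ne (fun e => hab ?_) h
    exact (Equiv.swap a i).injective ((Equiv.swap_apply_left a i).trans e)
  · show Equiv.swap (Equiv.swap a i b) j (Equiv.swap a i b) = j
    rw [Equiv.swap_apply_left]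

/-- The conjugates of the long root pair. -/
def movedM {P : Type*} [Group P] (hm : 3 ≤ m) (φ : SpecialLinearGroup (Fin m) F →* P) (ℓ : SL F →* P)
    (k : Fin m) : SL F →* P :=
  (MulAut.conj (φ (monSL hm (Equiv.swap (⟨0, by omega⟩ : Fin m) k)))).toMonoidHom.comp ℓ

variable [Fintype F]

/-- From `r` relations on `g` generators for `SL m` we get `r + 23` on `g + 3` generators for `Sp (2 m)`. -/
theorem pres_sp_general (hm : 3 ≤ m) {g r : ℕ} {t : Fin g → SpecialLinearGroup (Fin m) F} (h : HasPres g r t ⊤) :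
    ∃ s : Fin (g + 3) → Matrix.symplecticGroup (Fin m) F, HasPres (g + 3) (r + 23) s ⊤ := by
  classical
  obtain ⟨w, hw, hgen, a, hcl, RL, hRL, E, hE⟩ := exists_pair_pres (F := F)
  obtain ⟨s₁, s₂, hs₁, hs₂, hstab⟩ := stab_two_generated (F := F) hm
  let e₀ : Fin m := ⟨0, by omega⟩
  let e₁ : Fin m := ⟨1, by omega⟩
  have h01 : e₀ ≠ e₁ := by simp [e₀, e₁, Fin.ext_iff]
  let V : SpecialLinearGroup (Fin m) F := monSL hm (Equiv.swap e₀ e₁)
  let Z : SL F → Lett F m := fun z => FreeGroup.of (Sum.inr z)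
  let Y : SpecialLinearGroup (Fin m) F → Lett F m := fun A => FreeGroup.of (Sum.inl A)
  let Z₁ : SL F → Lett F m := fun z => Y V * Z z * (Y V)⁻¹
  let Rw : List (Lett F m) :=
    [⁅Y s₁, Z a⁆, ⁅Y s₁, Z (swHom a)⁆,
     ⁅Y s₂, Z a⁆, ⁅Y s₂, Z (swHom a)⁆,
     ⁅Z a, Z₁ a⁆, ⁅Z a, Z₁ (swHom a)⁆, ⁅Z (swHom a), Z₁ a⁆, ⁅Z (swHom a), Z₁ (swHom a)⁆] ++
    pairWords hw h01 Z Z₁
  have hfixT : ∀ A : SpecialLinearGroup (Fin m) F, Sends A.1 e₀ e₀ → Sends (invT A).1 e₀ e₀ → ∀ z,
      Commute (leviHom A) (mEmb e₀ z) := by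
    intro A hA hA' z
    refine mul_inv_eq_iff_eq_mul.1 (leviHom_conj_mEmb (fun t => ?_) (fun t => ?_) z) <;>
      (ext x y; rw [congr', Matrix.mul_apply, Finset.sum_eq_single e₀]
       · rw [Matrix.mul_apply, Finset.sum_eq_single e₀]
         · simp [hA.1, hA'.1, Matrix.single_apply, eq_comm]
           split_ifs <;> simp_all
         · intro c _ hc; simp [Matrix.single_apply, Ne.symm hc]
         · simp
       · intro c _ hc
         rw [Matrix.mul_apply, Finset.sum_eq_zero]
         · simp
         · intro d _; simp [Matrix.single_apply, Ne.symm hc]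
       · simp)
  have hsendInv : ∀ A : SpecialLinearGroup (Fin m) F, Sends A.1 e₀ e₀ → Sends (invT A).1 e₀ e₀ := by
    intro A hA
    have key : Sends A⁻¹.1 e₀ e₀ := by
      refine ⟨fun x => ?_, fun y => ?_⟩
      · have := congrFun (congrFun (sl_inv_mul_val A) x) e₀
        rw [Matrix.mul_apply, Finset.sum_eq_single e₀] at this
        · simpa [hA.1, Matrix.one_apply] using this
        · intro c _ hc; simp [hA.1, hc]
        · simp
      · have := congrFun (congrFun (sl_mul_inv_val A) e₀) y
        rw [Matrix.mul_apply, Finset.sum_eq_single e₀] at this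
        · simpa [hA.2, Matrix.one_apply, eq_comm] using this
        · intro c _ hc; simp [hA.2, hc]
        · simp
    exact key.transpose
  refine Exists.imp (fun s hs => hs.mono ?_) (pres_of_words (w := w) (hw := hw) (show 1 ≤ m by omega) h RL hRL E hE Rw ?_ ?_)
  · -- they hold in the matrices
    show ∀ x ∈ Rw, FreeGroup.lift (Sum.elim (⇑(leviHom (F := F) (m := m))) (⇑(mEmb (F := F) e₀))) x = 1
    have hV : ∀ z, leviHom V * mEmb e₀ z * (leviHom V)⁻¹ = mEmb e₁ z := fun z => by
      refine leviHom_conj_mEmb (fun t => ?_) (fun t => ?_) z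
      · rw [monSL_congr_single, Equiv.swap_apply_left]
      · rw [monSL_invT, monSL_congr_single, Equiv.swap_apply_left]
    intro x hx
    rw [List.mem_append] at hx
    rcases hx with hx | hx
    · revert x
      simp only [List.forall_mem_cons, List.not_mem_nil, IsEmpty.forall_iff, implies_true, and_true,
        map_commutatorElement, commutatorElement_eq_one_iff_commute, map_mul, map_inv, Z, Z₁, Y,
        FreeGroup.lift_apply_of, Sum.elim_inl, Sum.elim_inr, hV]
      exact ⟨hfixT _ hs₁ (hsendInv _ hs₁) _, hfixT _ hs₁ (hsendInv _ hs₁) _, hfixT _ hs₂ (hsendInv _ hs₂) _,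
        hfixT _ hs₂ (hsendInv _ hs₂) _, mEmb_commute h01 _ _, mEmb_commute h01 _ _, mEmb_commute h01 _ _,
        mEmb_commute h01 _ _⟩
    · exact (pairWords_iff hw h01 Z Z₁ leviHom (mEmb e₀) (mEmb (F := F)) (fun z => by simp [Z])
        (fun z => by simp [Z, Z₁, Y, hV])).2 (sp_pairRel hw h01) x hx
  · -- they give a system
    intro P _ φ ℓ π hπφ hπℓ hP hW
    let M : Fin m → SL F →* P := movedM hm φ ℓ
    have hM : ∀ k z, M k z =
        φ (monSL hm (Equiv.swap e₀ k)) * ℓ z * (φ (monSL hm (Equiv.swap e₀ k)))⁻¹ := fun k z => rfl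
    have hM0 : ∀ z, M e₀ z = ℓ z := fun z => by
      rw [hM, monSL_swap_zero, map_one, one_mul, inv_one, mul_one]
    simp only [Rw, List.forall_mem_append] at hW
    obtain ⟨hW, hpair⟩ := hW
    simp only [List.forall_mem_cons, List.not_mem_nil, IsEmpty.forall_iff, implies_true, and_true,
      map_commutatorElement, commutatorElement_eq_one_iff_commute, map_mul, map_inv, Z, Z₁, Y,
      FreeGroup.lift_apply_of, Sum.elim_inl, Sum.elim_inr] at hW
    obtain ⟨a1, a2, a3, a4, b1, b2, b3, b4⟩ := hW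
    have hext : ∀ (f f' : SL F →* P), f a = f' a → f (swHom a) = f' (swHom a) → ∀ z, f z = f' z := by
      intro f f' e1 e2 z
      have : f.eqLocus f' = ⊤ := eq_top_iff.2 (hcl.ge.trans ((Subgroup.closure_le _).2 (by
        rintro _ (rfl | rfl)
        · exact e1
        · exact e2)))
      exact (this.ge (Subgroup.mem_top z) :)
    have hstabP : ∀ A : SpecialLinearGroup (Fin m) F, Sends A.1 e₀ e₀ → ∀ z, Commute (φ A) (ℓ z) := by
      intro A hA z
      have hgens : ∀ x ∈ ({s₁, s₂} : Set (SpecialLinearGroup (Fin m) F)), ∀ z, Commute (φ x) (ℓ z) := by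
        intro x hx z
        refine mul_inv_eq_iff_eq_mul.1 (hext ((MulAut.conj (φ x)).toMonoidHom.comp ℓ) ℓ ?_ ?_ z)
        · rcases hx with rfl | rfl
          exacts [mul_inv_eq_iff_eq_mul.2 a1.eq, mul_inv_eq_iff_eq_mul.2 a3.eq]
        · rcases hx with rfl | rfl
          exacts [mul_inv_eq_iff_eq_mul.2 a2.eq, mul_inv_eq_iff_eq_mul.2 a4.eq]
      have hA' := hstab A hA
      clear hA
      induction hA' using Subgroup.closure_induction with
      | mem x hx => exact hgens x hx z
      | one => rw [map_one]; exact Commute.one_left _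
      | mul x y _ _ hx hy => rw [map_mul]; exact hx.mul_left hy
      | inv x _ hx => rw [map_inv]; exact hx.inv_left
    -- moving
    have hmove : ∀ (k : Fin m) (A : SpecialLinearGroup (Fin m) F), Sends A.1 e₀ k → ∀ z,
        φ A * ℓ z * (φ A)⁻¹ = M k z := by
      intro k A hA z
      have hsV : Sends (monMat (F := F) (Equiv.swap e₀ k)) e₀ k := by
        have := sends_monMat (F := F) (Equiv.swap e₀ k) (a := e₀) (by simp [e₀])
        rwa [Equiv.swap_apply_left] at this
      set B := (monSL (F := F) hm (Equiv.swap e₀ k))⁻¹ * A with hB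
      have hB0 : Sends B.1 e₀ e₀ := by
        show Sends ((monSL (F := F) hm (Equiv.swap e₀ k))⁻¹.1 * A.1) e₀ e₀
        rw [monSL_inv]
        exact hA.mul hsV.transpose
      have hc := hstabP B hB0 z
      rw [hB, map_mul, map_inv] at hc
      rw [hM]
      set u := φ (monSL hm (Equiv.swap e₀ k))
      calc φ A * ℓ z * (φ A)⁻¹ = u * ((u⁻¹ * φ A) * ℓ z) * (φ A)⁻¹ := by group
        _ = u * (ℓ z * (u⁻¹ * φ A)) * (φ A)⁻¹ := by rw [hc.eq]
        _ = _ := by group
    have hsend1 : Sends V.1 e₀ e₁ := by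
      have := sends_monMat (F := F) (Equiv.swap e₀ e₁) (a := e₀) (by simp [e₀])
      rwa [Equiv.swap_apply_left] at this
    have hM1 : ∀ z, φ V * ℓ z * (φ V)⁻¹ = M e₁ z := hmove e₁ V hsend1
    have hR0 : PairRel hw M φ e₀ e₁ := (pairWords_iff hw h01 Z Z₁ φ ℓ M (fun z => by simp [Z, hM0])
      (fun z => by simp [Z, Z₁, Y, hM1])).1 hpair
    have hcomm0 : ∀ z z', Commute (M e₀ z) (M e₁ z') := by
      have hA : ∀ x ∈ ({a, swHom a} : Set (SL F)), ∀ z', Commute (ℓ x) (φ V * ℓ z' * (φ V)⁻¹) := by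
        intro x hx z'
        refine mul_inv_eq_iff_eq_mul.1 (hext ((MulAut.conj (ℓ x)).toMonoidHom.comp
          ((MulAut.conj (φ V)).toMonoidHom.comp ℓ)) ((MulAut.conj (φ V)).toMonoidHom.comp ℓ) ?_ ?_ z' :)
        · rcases hx with rfl | rfl
          exacts [mul_inv_eq_iff_eq_mul.2 b1.eq, mul_inv_eq_iff_eq_mul.2 b3.eq]
        · rcases hx with rfl | rfl
          exacts [mul_inv_eq_iff_eq_mul.2 b2.eq, mul_inv_eq_iff_eq_mul.2 b4.eq]
      intro z z'
      rw [hM0, ← hM1]
      exact ((mul_inv_eq_iff_eq_mul.1 (hext ((MulAut.conj (φ V * ℓ z' * (φ V)⁻¹)).toMonoidHom.comp ℓ) ℓ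
        (mul_inv_eq_iff_eq_mul.2 (hA a (Or.inl rfl) z').eq.symm)
        (mul_inv_eq_iff_eq_mul.2 (hA (swHom a) (Or.inr rfl) z').eq.symm) z) :)).symm
    -- transport to all pairs
    have hpairs : ∀ i j, i ≠ j → (∀ z z', Commute (M i z) (M j z')) ∧ PairRel hw M φ i j := by
      intro i j hij
      obtain ⟨σ, hσ0, hσ1⟩ := exists_pair_perm hm hij
      set W := monSL (F := F) hm σ with hW
      have hs0 : Sends W.1 e₀ i := by
        have := sends_monMat (F := F) σ (a := e₀) (by simp [e₀])
        rwa [hσ0] at this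
      have hs1 : Sends W.1 e₁ j := by
        have := sends_monMat (F := F) σ (a := e₁) (by simp [e₁])
        rwa [hσ1] at this
      set c : MulAut P := MulAut.conj (φ W)
      have hci : ∀ z, c (M e₀ z) = M i z := fun z => by rw [hM0]; exact hmove i W hs0 z
      have hcj : ∀ z, c (M e₁ z) = M j z := fun z => by
        rw [← hM1]
        show φ W * (φ V * ℓ z * (φ V)⁻¹) * (φ W)⁻¹ = _
        rw [← hmove j (W * V) (hsend1.mul hs1), map_mul]
        group
      have hcy : ∀ t, c (yTr φ e₀ e₁ t) = yTr φ i j t := fun t => by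
        show φ W * _ * (φ W)⁻¹ = _
        rw [yTr_eq φ h01, ← map_inv, ← map_mul, ← map_mul, hW, monSL_conj_transvection, ← yTr_eq φ,
          hσ0, hσ1, monSgn_lt (a := e₀) (by simp [e₀]), monSgn_lt (a := e₁) (by simp [e₁]), one_mul, one_mul]
      have hcy' : ∀ t, c (yTr φ e₁ e₀ t) = yTr φ j i t := fun t => by
        show φ W * _ * (φ W)⁻¹ = _
        rw [yTr_eq φ h01.symm, ← map_inv, ← map_mul, ← map_mul, hW, monSL_conj_transvection, ← yTr_eq φ,
          hσ0, hσ1, monSgn_lt (a := e₀) (by simp [e₀]), monSgn_lt (a := e₁) (by simp [e₁]), one_mul, one_mul]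
      have hce : c (φ (emb2 e₀ e₁ (dSL hw))) = φ (emb2 i j (dSL hw)) := by
        show φ W * _ * (φ W)⁻¹ = _
        rw [← map_inv, ← map_mul, ← map_mul]
        congr 1
        have : (MulAut.conj W).toMonoidHom.comp (emb2 e₀ e₁) = emb2 (F := F) i j := by
          refine sl2_hom_ext (fun t => ?_) fun t => ?_
          · show W * emb2 e₀ e₁ (up t) * W⁻¹ = emb2 i j (up t)
            rw [emb2_up h01, emb2_up hij, hW, monSL_conj_transvection]
            apply Subtype.ext
            show Matrix.transvection _ _ _ = Matrix.transvection i j t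
            rw [hσ0, hσ1, monSgn_lt (a := e₀) (by simp [e₀]), monSgn_lt (a := e₁) (by simp [e₁]), one_mul, one_mul]
          · show W * emb2 e₀ e₁ (low t) * W⁻¹ = emb2 i j (low t)
            rw [emb2_low h01, emb2_low hij, hW, monSL_conj_transvection]
            apply Subtype.ext
            show Matrix.transvection _ _ _ = Matrix.transvection j i t
            rw [hσ0, hσ1, monSgn_lt (a := e₀) (by simp [e₀]), monSgn_lt (a := e₁) (by simp [e₁]), one_mul, one_mul]
        exact DFunLike.congr_fun this (dSL hw)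
      refine ⟨fun z z' => by rw [← hci, ← hcj]; exact (hcomm0 z z').map c, ?_⟩
      refine ⟨?_, ?_, ?_, ?_, ?_, ?_, ?_, ?_⟩
      · rw [← hci, ← hcy]; exact hR0.upY.map c
      · rw [← hcj, ← hcy]; exact hR0.lowY.map c
      · rw [← hci, ← hcy, ← map_inv, ← map_mul, ← map_mul, hR0.scale, hcy]
      · rw [← hci, ← hcj, ← map_inv, ← map_mul, ← hR0.torus, hce]
      · have := congrArg c hR0.baseUp
        simpa only [map_commutatorElement, mixY, map_mul, map_inv, hci, hcj, hcy, hcy'] using this
      · have := congrArg c hR0.symUp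
        simpa only [mixY, map_mul, map_inv, hci, hcj, hcy, hcy'] using this
      · have := congrArg c hR0.baseLow
        simpa only [map_commutatorElement, mixY, map_mul, map_inv, hci, hcj, hcy, hcy'] using this
      · have := congrArg c hR0.symLow
        simpa only [mixY, map_mul, map_inv, hci, hcj, hcy, hcy'] using this
    have hfix : ∀ k i j, i ≠ j → k ≠ i → k ≠ j → ∀ z t, Commute (M k z) (yTr φ i j t) := by
      intro k i j hij hki hkj z t
      obtain ⟨σ, hσ⟩ : ∃ σ : Equiv.Perm (Fin m), σ = Equiv.swap e₀ k := ⟨_, rfl⟩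
      set W := monSL (F := F) hm σ with hW
      have hσk : σ e₀ = k := by rw [hσ, Equiv.swap_apply_left]
      obtain ⟨a', rfl⟩ := σ.surjective i
      obtain ⟨b', rfl⟩ := σ.surjective j
      have hab : a' ≠ b' := fun e => hij (by rw [e])
      have ha0 : a' ≠ e₀ := fun e => hki (by rw [e, hσk])
      have hb0 : b' ≠ e₀ := fun e => hkj (by rw [e, hσk])
      have hst : ∀ t', Sends (SpecialLinearGroup.transvection hab t' : SpecialLinearGroup (Fin m) F).1 e₀ e₀ :=
        fun t' => by
        refine ⟨fun x => ?_, fun y => ?_⟩ <;>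
          simp [SpecialLinearGroup.transvection_coe, Matrix.one_apply, Matrix.single_apply, ha0, hb0, eq_comm]
      have := (hstabP _ (hst (monSgn σ a' * monSgn σ b' * t)) z).symm.map (MulAut.conj (φ W))
      simp only [MulAut.conj_apply, ← map_inv, ← map_mul] at this
      rw [hW, monSL_conj_transvection] at this
      rw [map_inv] at this
      rw [yTr_eq φ hij]
      convert this using 1
      · rw [hM, hσ]
      · congr 1
        apply Subtype.ext
        show Matrix.transvection _ _ _ = Matrix.transvection _ _ _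
        rw [show monSgn (F := F) σ a' * monSgn σ b' * (monSgn σ a' * monSgn σ b' * t) =
          (monSgn σ a' * monSgn σ a') * (monSgn σ b' * monSgn σ b') * t by ring, monSgn_sq, monSgn_sq]
        simp
    refine ⟨M, spSys_of_pairs hgen (fun i j hij => (hpairs i j hij).1) hfix (fun i j hij => (hpairs i j hij).2) ?_,
      fun i z => ?_⟩
    · rw [eq_top_iff, ← hP, Subgroup.closure_le]
      rintro x (hx | ⟨z, rfl⟩)
      · exact Subgroup.subset_closure (Or.inl hx)
      · exact Subgroup.subset_closure (Or.inr (Set.mem_iUnion.2 ⟨e₀, ⟨z, hM0 z⟩⟩))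
    · rw [hM, map_mul, map_mul, map_inv, hπφ, hπℓ]
      refine leviHom_conj_mEmb (fun t => ?_) (fun t => ?_) z
      · rw [monSL_congr_single]; exact congrArg (fun k => Matrix.single k k t) (Equiv.swap_apply_left e₀ i)
      · rw [monSL_invT, monSL_congr_single]; exact congrArg (fun k => Matrix.single k k t) (Equiv.swap_apply_left e₀ i)
  · show r + 7 + Rw.length ≤ r + 23
    simp only [Rw, List.length_append, List.length_cons, List.length_nil, pairWords_length]
    exact le_rfl

end CfsgLib.SpPres
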