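import Cfsg.Agent.Lib.KnownB.SpPres.Assemble
import Cfsg.Agent.Lib.KnownB.SpPres.PairWords
import Cfsg.Agent.Lib.KnownB.SpPres.Roots

/-!
# A presentation of the symplectic group in dimension four
-/

set_option autoImplicit false
set_option linter.unusedSectionVars false

open Matrix CfsgLib.Perm.Quad.SL2 CfsgLib.SL2Pres CfsgLib.SLPres CfsgLib.Classical CfsgLib.Presentations
open scoped commutatorElement

namespace CfsgLib.SpPres

variable {F : Type*} [Field F] [Fintype F]

theorem fin_two_cases {i j : Fin 2} (h : i ≠ j) : (i = 0 ∧ j = 1) ∨ (i = 1 ∧ j = 0) := by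
  fin_cases i <;> fin_cases j <;> simp at h ⊢

/-- Six generators and thirty four relations. -/
theorem pres_sp_two : ∃ s : Fin 6 → Matrix.symplecticGroup (Fin 2) F, HasPres 6 34 s ⊤ := by
  classical
  obtain ⟨w, hw, hgen, a, hcl, RL, hRL, E, hE⟩ := exists_pair_pres (F := F)
  have h01 : (0 : Fin 2) ≠ 1 := by decide
  let V : SpecialLinearGroup (Fin 2) F := emb2 0 1 jSL
  let Z : SL F → Lett F 2 := fun z => FreeGroup.of (Sum.inr z)
  let Y : SpecialLinearGroup (Fin 2) F → Lett F 2 := fun A => FreeGroup.of (Sum.inl A)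
  let Z₁ : SL F → Lett F 2 := fun z => Y V * Z z * (Y V)⁻¹
  let Rw : List (Lett F 2) :=
    [⁅Z a, Z₁ a⁆, ⁅Z a, Z₁ (swHom a)⁆, ⁅Z (swHom a), Z₁ a⁆, ⁅Z (swHom a), Z₁ (swHom a)⁆] ++
      pairWords hw h01 Z Z₁ ++ pairWords hw h01.symm Z₁ Z
  have hV : ∀ z, leviHom V * mEmb (0 : Fin 2) z * (leviHom V)⁻¹ = mEmb (1 : Fin 2) z := fun z => by
    refine leviHom_conj_mEmb (fun t => ?_) (fun t => ?_) z
    · rw [congr'_jSL h01, wSgn_sq, one_mul, Equiv.swap_apply_left]
    · rw [invT_val, congr'_jSL_invT h01, wSgn_sq, one_mul, Equiv.swap_apply_left]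
  refine Exists.imp (fun s hs => hs.mono ?_)
    (pres_of_words (w := w) (hw := hw) (m := 2) one_le_two (hasPres_of_iso hRL E) RL hRL E hE Rw ?_ ?_)
  · -- they hold in the matrices
    show ∀ x ∈ Rw, FreeGroup.lift (Sum.elim (⇑(leviHom (F := F) (m := 2))) (⇑(mEmb (F := F) (0 : Fin 2)))) x = 1
    intro x hx
    rw [List.mem_append, List.mem_append] at hx
    rcases hx with (hx | hx) | hx
    · revert x
      simp only [List.forall_mem_cons, List.not_mem_nil, IsEmpty.forall_iff, implies_true, and_true,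
        map_commutatorElement, commutatorElement_eq_one_iff_commute, map_mul, map_inv, Z, Z₁, Y,
        FreeGroup.lift_apply_of, Sum.elim_inl, Sum.elim_inr, hV]
      exact ⟨mEmb_commute h01 _ _, mEmb_commute h01 _ _, mEmb_commute h01 _ _, mEmb_commute h01 _ _⟩
    · exact (pairWords_iff hw h01 Z Z₁ leviHom (mEmb 0) (mEmb (F := F)) (fun z => by simp [Z])
        (fun z => by simp [Z, Z₁, Y, hV])).2 (sp_pairRel hw h01) x hx
    · exact (pairWords_iff hw h01.symm Z₁ Z leviHom (mEmb 0) (mEmb (F := F))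
        (fun z => by simp [Z, Z₁, Y, hV]) (fun z => by simp [Z])).2 (sp_pairRel hw h01.symm) x hx
  · -- they give a system
    intro P _ φ ℓ π hπφ hπℓ hP hW
    let M : Fin 2 → SL F →* P := ![ℓ, (MulAut.conj (φ V)).toMonoidHom.comp ℓ]
    simp only [Rw, List.forall_mem_append] at hW
    obtain ⟨⟨hW, hp⟩, hp'⟩ := hW
    simp only [List.forall_mem_cons, List.not_mem_nil, IsEmpty.forall_iff, implies_true, and_true,
      map_commutatorElement, commutatorElement_eq_one_iff_commute, map_mul, map_inv, Z, Z₁, Y,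
      FreeGroup.lift_apply_of, Sum.elim_inl, Sum.elim_inr] at hW
    obtain ⟨b1, b2, b3, b4⟩ := hW
    have hext : ∀ (f f' : SL F →* P), f a = f' a → f (swHom a) = f' (swHom a) → ∀ z, f z = f' z := by
      intro f f' e1 e2 z
      have : f.eqLocus f' = ⊤ := eq_top_iff.2 (hcl.ge.trans ((Subgroup.closure_le _).2 (by
        rintro _ (rfl | rfl)
        · exact e1
        · exact e2)))
      exact (this.ge (Subgroup.mem_top z) :)
    have hM0 : ∀ z, M 0 z = ℓ z := fun z => rfl
    have hM1 : ∀ z, M 1 z = φ V * ℓ z * (φ V)⁻¹ := fun z => rfl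
    have hA : ∀ x ∈ ({a, swHom a} : Set (SL F)), ∀ z', Commute (ℓ x) (M 1 z') := by
      intro x hx z'
      refine mul_inv_eq_iff_eq_mul.1 (hext ((MulAut.conj (ℓ x)).toMonoidHom.comp (M 1)) (M 1) ?_ ?_ z' :)
      · rcases hx with rfl | rfl
        exacts [mul_inv_eq_iff_eq_mul.2 b1.eq, mul_inv_eq_iff_eq_mul.2 b3.eq]
      · rcases hx with rfl | rfl
        exacts [mul_inv_eq_iff_eq_mul.2 b2.eq, mul_inv_eq_iff_eq_mul.2 b4.eq]
    have hcomm : ∀ i j, i ≠ j → ∀ z z', Commute (M i z) (M j z') := by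
      have key : ∀ z z', Commute (M 0 z) (M 1 z') := fun z z' =>
        ((mul_inv_eq_iff_eq_mul.1 (hext ((MulAut.conj (M 1 z')).toMonoidHom.comp ℓ) ℓ
          (mul_inv_eq_iff_eq_mul.2 (hA a (Or.inl rfl) z').eq.symm)
          (mul_inv_eq_iff_eq_mul.2 (hA (swHom a) (Or.inr rfl) z').eq.symm) z) :)).symm
      intro i j h z z'
      rcases fin_two_cases h with ⟨rfl, rfl⟩ | ⟨rfl, rfl⟩
      exacts [key z z', (key z' z).symm]
    refine ⟨M, spSys_of_pairs hgen hcomm (fun k i j h hi hj => ?_) (fun i j h => ?_) ?_, fun i z => ?_⟩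
    · rcases fin_two_cases h with ⟨rfl, rfl⟩ | ⟨rfl, rfl⟩ <;> fin_cases k <;> simp at hi hj
    · rcases fin_two_cases h with ⟨rfl, rfl⟩ | ⟨rfl, rfl⟩
      · exact (pairWords_iff hw h Z Z₁ φ ℓ M (fun z => by simp [Z, hM0])
          (fun z => by simp [Z, Z₁, Y, hM1])).1 hp
      · exact (pairWords_iff hw h Z₁ Z φ ℓ M (fun z => by simp [Z, Z₁, Y, hM1])
          (fun z => by simp [Z, hM0])).1 hp'
    · rw [eq_top_iff, ← hP, Subgroup.closure_le]
      rintro x (hx | ⟨z, rfl⟩)
      · exact Subgroup.subset_closure (Or.inl hx)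
      · exact Subgroup.subset_closure (Or.inr (Set.mem_iUnion.2 ⟨0, ⟨z, rfl⟩⟩))
    · fin_cases i
      · exact hπℓ z
      · show π (φ V * ℓ z * (φ V)⁻¹) = mEmb (1 : Fin 2) z
        rw [map_mul, map_mul, map_inv, hπφ, hπℓ]
        exact hV z
  · show 7 + 7 + Rw.length ≤ 34
    simp only [Rw, List.length_append, List.length_cons, List.length_nil, pairWords_length]
    exact le_rfl

end CfsgLib.SpPres
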