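import Cfsg.Prelude.Def_Classical
import Cfsg.Agent.Lib.KnownB.SpPres.PresGeneral
import Cfsg.Agent.Lib.KnownB.SpPres.PresTwo
import Cfsg.Agent.Lib.KnownB.SLPres.AltPres
import Cfsg.Agent.Lib.KnownB.SLPres.ThreePresent

/-!
# The symplectic presentations used in the statements
-/

set_option autoImplicit false

open CfsgLib.Presentations CfsgLib.SLPres

namespace CfsgLib.SpPres

variable {F : Type*} [Field F]

theorem exists_sp_center_gen (n : ℕ) :
    ∃ z ∈ Subgroup.center (Matrix.symplecticGroup (Fin n) F),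
      Subgroup.center (Matrix.symplecticGroup (Fin n) F) ≤ Subgroup.zpowers z := by
  by_cases h : ∃ z ∈ Subgroup.center (Matrix.symplecticGroup (Fin n) F), z ≠ 1
  · obtain ⟨z, hz, hne⟩ := h
    refine ⟨z, hz, fun x hx => ?_⟩
    rcases CfsgLib.Classical.sp_center_eq n hx with e | e
    · rw [show x = 1 from Subtype.ext e]; exact one_mem _
    rcases CfsgLib.Classical.sp_center_eq n hz with e' | e'
    · exact absurd (Subtype.ext e') hne
    rw [show x = z from Subtype.ext (e.trans e'.symm)]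
    exact Subgroup.mem_zpowers z
  · push Not at h
    exact ⟨1, one_mem _, fun x hx => by rw [h x hx]; exact one_mem _⟩

/-- One more relation presents the projective group. -/
theorem psp_pres {n g k : ℕ} {s : Fin g → Matrix.symplecticGroup (Fin n) F} (h : HasPres g k s ⊤) :
    ∃ t : Fin g → Cfsg.PSp n F, HasPres g (k + 1) t ⊤ := by
  obtain ⟨z, hz, hle⟩ := exists_sp_center_gen (F := F) n
  exact ⟨_, quotient_pres h _ z hz hle⟩

variable [Fintype F]

theorem sp_pres_counts_small {n : ℕ} (hn : n = 4 ∨ n = 5) :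
    ∃ s : Fin 9 → Matrix.symplecticGroup (Fin n) F, HasPres 9 57 s ⊤ := by
  rcases hn with rfl | rfl
  · obtain ⟨t, ht⟩ := alt_pres_four
    obtain ⟨s, hs⟩ := pres_sl (F := F) le_rfl ht
    obtain ⟨s, hs⟩ := pres_sp_general (by norm_num) hs
    obtain ⟨s, hs⟩ := hasPres_succ hs
    obtain ⟨s, hs⟩ := hasPres_succ hs
    exact ⟨s, hs.mono (by norm_num)⟩
  · obtain ⟨t, ht⟩ := alt_pres_five
    obtain ⟨s, hs⟩ := pres_sl (F := F) (by norm_num) ht
    obtain ⟨s, hs⟩ := pres_sp_general (by norm_num) hs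
    obtain ⟨s, hs⟩ := hasPres_succ hs
    obtain ⟨s, hs⟩ := hasPres_succ hs
    exact ⟨s, hs.mono (by norm_num)⟩

theorem sp_pres_counts {n : ℕ} (hn : 4 ≤ n) :
    ∃ s : Fin 10 → Matrix.symplecticGroup (Fin n) F, HasPres 10 58 s ⊤ := by
  obtain ⟨t, ht⟩ := sl_pres_counts (F := F) hn
  obtain ⟨s, hs⟩ := pres_sp_general (by omega) ht
  exact ⟨s, hs.mono (by norm_num)⟩

theorem sp_pres_three : ∃ s : Fin 8 → Matrix.symplecticGroup (Fin 3) F, HasPres 8 52 s ⊤ := by
  obtain ⟨t, ht⟩ := pres_sl_three_short (F := F)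
  obtain ⟨s, hs⟩ := pres_sp_general le_rfl ht
  obtain ⟨s, hs⟩ := hasPres_succ hs
  exact ⟨s, hs.mono (by norm_num)⟩

end CfsgLib.SpPres
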