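import Cfsg.Agent.Lib.KnownB.SpPres.Target

/-!
# The hypotheses on a group modelled on the symplectic group, and its two radicals
-/

set_option autoImplicit false
set_option linter.unusedSectionVars false

open Matrix CfsgLib.Perm.Quad.SL2 CfsgLib.SL2Pres CfsgLib.SLPres CfsgLib.KnownA.StSL CfsgLib.Classical
open scoped commutatorElement

namespace CfsgLib.SpPres

variable {F : Type*} [Field F] {m : ℕ} {P : Type*} [Group P]

/-- The root elements of a homomorphism from the special linear group. -/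
def yTr (φ : SpecialLinearGroup (Fin m) F →* P) (i j : Fin m) (t : F) : P :=
  if h : i ≠ j then φ (SpecialLinearGroup.transvection h t) else 1

theorem yTr_eq (φ : SpecialLinearGroup (Fin m) F →* P) {i j : Fin m} (h : i ≠ j) (t : F) :
    yTr φ i j t = φ (SpecialLinearGroup.transvection h t) := dif_pos h

/-- Inverse transpose. -/
def invT : SpecialLinearGroup (Fin m) F →* SpecialLinearGroup (Fin m) F :=
  MonoidHom.mk' (fun A => ⟨A⁻¹.1ᵀ, by rw [Matrix.det_transpose]; exact A⁻¹.2⟩) fun A B => by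
    apply Subtype.ext
    show (A * B)⁻¹.1ᵀ = A⁻¹.1ᵀ * B⁻¹.1ᵀ
    rw [_root_.mul_inv_rev, show (B⁻¹ * A⁻¹).1 = B⁻¹.1 * A⁻¹.1 from rfl, Matrix.transpose_mul]

theorem invT_val (A : SpecialLinearGroup (Fin m) F) : (invT A).1 = A⁻¹.1ᵀ := rfl

theorem invT_invT (A : SpecialLinearGroup (Fin m) F) : invT (invT A) = A := by
  apply Subtype.ext
  rw [invT_val, ← map_inv, invT_val, inv_inv, Matrix.transpose_transpose]

theorem invT_transvection {i j : Fin m} (h : i ≠ j) (t : F) :
    invT (SpecialLinearGroup.transvection h t) = SpecialLinearGroup.transvection h.symm (-t) := by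
  apply Subtype.ext
  rw [invT_val, transvection_inv_val]
  simp only [Matrix.transvection, Matrix.transpose_add, Matrix.transpose_one, Matrix.transpose_single]
  rfl

/-- The hypotheses on long root pairs `M` and a Levi homomorphism `φ`. -/
structure SpSys {w : F} (hw : w ≠ 0) (M : Fin m → SL F →* P) (φ : SpecialLinearGroup (Fin m) F →* P) : Prop where
  hgen : ∀ x : F, x ≠ 0 → ∃ e : ℕ, w ^ e = x
  commM : ∀ i j, i ≠ j → ∀ z z', Commute (M i z) (M j z')
  fixM : ∀ k i j, i ≠ j → k ≠ i → k ≠ j → ∀ z t, Commute (M k z) (yTr φ i j t)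
  upY : ∀ i j, i ≠ j → ∀ s t, Commute (M i (up s)) (yTr φ i j t)
  lowY : ∀ i j, i ≠ j → ∀ s t, Commute (M j (low s)) (yTr φ i j t)
  scale₁ : ∀ i j, i ≠ j → ∀ t, M i (dSL hw) * yTr φ i j t * (M i (dSL hw))⁻¹ = yTr φ i j (w * t)
  scale₂ : ∀ i j, i ≠ j → ∀ t, M j (dSL hw) * yTr φ i j t * (M j (dSL hw))⁻¹ = yTr φ i j (w⁻¹ * t)
  baseUp : ∀ i j, i ≠ j → ⁅yTr φ j i 1, M i (up 1)⁆ =
    mixY (-1) (yTr φ) (fun k => M k jSL) i j 1 * M j (up 1)
  symUp : ∀ i j, i ≠ j →
    mixY (-1) (yTr φ) (fun k => M k jSL) i j 1 = mixY (-1) (yTr φ) (fun k => M k jSL) j i 1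
  baseLow : ∀ i j, i ≠ j → ⁅yTr φ i j (-1), M i (low 1)⁆ =
    mixY 1 (fun a b t => yTr φ b a (-t)) (fun k => M k jSL) i j 1 * M j (low 1)
  symLow : ∀ i j, i ≠ j → mixY 1 (fun a b t => yTr φ b a (-t)) (fun k => M k jSL) i j 1 =
    mixY 1 (fun a b t => yTr φ b a (-t)) (fun k => M k jSL) j i 1
  torus : ∀ i j, i ≠ j → φ (emb2 i j (dSL hw)) = M i (dSL hw) * (M j (dSL hw))⁻¹
  gen : Subgroup.closure ((φ.range : Set P) ∪ ⋃ i, ((M i).range : Set P)) = ⊤

theorem yTr_preSt (φ : SpecialLinearGroup (Fin m) F →* P) : PreSt (yTr φ) where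
  add i j t u h := by
    rw [yTr_eq φ h, yTr_eq φ h, yTr_eq φ h, ← map_mul]
    congr 1
    exact Subtype.ext (Matrix.transvection_mul_transvection_same i j h t u)
  comm i j k l t u h h' hil hjk := by
    rw [yTr_eq φ h, yTr_eq φ h']
    exact (transvection_commute h h' hil hjk t u).map φ
  mix i j k t u hij hjk hik := by
    rw [yTr_eq φ hij, yTr_eq φ hjk, yTr_eq φ hik, ← map_commutatorElement, commutator_transvection hij hjk hik]

theorem yTr_invT (φ : SpecialLinearGroup (Fin m) F →* P) (i j : Fin m) (t : F) :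
    yTr (φ.comp invT) i j t = yTr φ j i (-t) := by
  by_cases h : i ≠ j
  · rw [yTr_eq _ h, yTr_eq _ h.symm, MonoidHom.comp_apply, invT_transvection]
  · rw [yTr, dif_neg h, yTr, dif_neg (fun e => h (Ne.symm e))]

theorem dSL_conj_jSL {w : F} (hw : w ≠ 0) : (jSL : SL F) * dSL hw * jSL⁻¹ = (dSL hw)⁻¹ := by
  rw [mul_inv_eq_iff_eq_mul, eq_inv_mul_iff_mul_eq]
  apply ext2 <;> simp [mul_apply2, jSL_coe, dSL_coe, hw]

variable {w : F} {hw : w ≠ 0} {M : Fin m → SL F →* P} {φ : SpecialLinearGroup (Fin m) F →* P}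
  (S : SpSys hw M φ)
include S

theorem SpSys.upSys : SymSys w (-1) (yTr φ) (fun k t => M k (up t)) (fun k => M k jSL)
    (fun k => M k (dSL hw)) where
  pre := yTr_preSt φ
  hw := hw
  hgen := S.hgen
  u_add k t s := by rw [← map_mul, up_add]
  uu k l t s h := S.commM k l h _ _
  un k l t h := S.commM k l h _ _
  nn k l := by
    by_cases h : k = l
    · subst h; exact Commute.refl _
    · exact S.commM k l h _ _
  uy k a b s t h hk := by
    by_cases hka : k = a
    · subst hka; exact S.upY k b h s t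
    · exact S.fixM k a b h hka hk _ t
  ny k a b t h ha hb := S.fixM k a b h ha hb _ t
  gu k t := by rw [← map_inv, ← map_mul, ← map_mul, dSL_conj_up]
  gu' k l t h := S.commM k l h _ _
  gy₁ a b t h := S.scale₁ a b h t
  gy₂ a b t h := S.scale₂ a b h t
  gy₃ k a b t h ha hb := S.fixM k a b h ha hb _ t
  gn k := by rw [← map_inv, ← map_mul, ← map_mul, dSL_conj_jSL, map_inv]
  gn' k l h := S.commM k l h _ _
  base := S.baseUp
  symm₁ := S.symUp

theorem SpSys.lowSys : SymSys w 1 (fun a b t => yTr φ b a (-t)) (fun k t => M k (low t)) (fun k => M k jSL)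
    (fun k => M k (dSL hw)⁻¹) where
  pre := by
    have e : (fun a b t => yTr φ b a (-t)) = yTr (φ.comp invT) := by
      funext a b t; exact (yTr_invT φ a b t).symm
    rw [e]; exact yTr_preSt _
  hw := hw
  hgen := S.hgen
  u_add k t s := by rw [← map_mul, low_add]
  uu k l t s h := S.commM k l h _ _
  un k l t h := S.commM k l h _ _
  nn k l := by
    by_cases h : k = l
    · subst h; exact Commute.refl _
    · exact S.commM k l h _ _
  uy k a b s t h hk := by
    by_cases hka : k = a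
    · subst hka; exact S.lowY b k h.symm s _
    · exact S.fixM k b a h.symm hk hka _ _
  ny k a b t h ha hb := S.fixM k b a h.symm hb ha _ _
  gu k t := by
    rw [← map_inv, ← map_mul, ← map_mul]
    congr 1
    rw [inv_inv]
    have := dSL_conj_low hw (w ^ 2 * t)
    rw [mul_div_cancel_left₀ t (pow_ne_zero 2 hw)] at this
    rw [← this]
    group
  gu' k l t h := S.commM k l h _ _
  gy₁ a b t h := by
    show M a (dSL hw)⁻¹ * yTr φ b a (-t) * (M a (dSL hw)⁻¹)⁻¹ = yTr φ b a (-(w * t))
    have := S.scale₂ b a h.symm (-(w * t))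
    rw [show w⁻¹ * -(w * t) = -t by field_simp] at this
    rw [map_inv, inv_inv, ← this]
    group
  gy₂ a b t h := by
    show M b (dSL hw)⁻¹ * yTr φ b a (-t) * (M b (dSL hw)⁻¹)⁻¹ = yTr φ b a (-(w⁻¹ * t))
    have := S.scale₁ b a h.symm (-(w⁻¹ * t))
    rw [show w * -(w⁻¹ * t) = -t by field_simp] at this
    rw [map_inv, inv_inv, ← this]
    group
  gy₃ k a b t h ha hb := S.fixM k b a h.symm hb ha _ _
  gn k := by
    rw [← map_inv, ← map_mul, ← map_mul, ← map_inv]
    congr 1
    have := congrArg (fun z => z⁻¹) (dSL_conj_jSL hw)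
    simpa [mul_assoc] using this
  gn' k l h := S.commM k l h _ _
  base := S.baseLow
  symm₁ := S.symLow

variable [Finite F]

/-- The Levi homomorphism acts by congruence on the upper radical. -/
theorem SpSys.act_up (A : SpecialLinearGroup (Fin m) F) {X : Matrix (Fin m) (Fin m) F} (hX : X.IsSymm) :
    φ A * S.upSys.psi X * (φ A)⁻¹ = S.upSys.psi (congr' A.1 X) :=
  S.upSys.equi_sl φ (fun a b h t => (yTr_eq φ h t).symm) A X hX

/-- The Levi homomorphism acts by inverse congruence on the lower radical. -/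
theorem SpSys.act_low (A : SpecialLinearGroup (Fin m) F) {X : Matrix (Fin m) (Fin m) F} (hX : X.IsSymm) :
    φ A * S.lowSys.psi X * (φ A)⁻¹ = S.lowSys.psi (congr' (invT A).1 X) := by
  have := S.lowSys.equi_sl (φ.comp invT) (fun a b h t => by rw [← yTr_eq _ h, yTr_invT]) (invT A) X hX
  rwa [MonoidHom.comp_apply, invT_invT] at this

/-- Moving the long root pairs by the Levi subgroup. -/
theorem SpSys.move (A : SpecialLinearGroup (Fin m) F) {k l : Fin m}
    (h1 : ∀ t, congr' A.1 (Matrix.single k k t) = Matrix.single l l t)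
    (h2 : ∀ t, congr' (invT A).1 (Matrix.single k k t) = Matrix.single l l t) (z : SL F) :
    φ A * M k z * (φ A)⁻¹ = M l z := by
  have : ((MulAut.conj (φ A)).toMonoidHom.comp (M k)) = M l := by
    refine sl2_hom_ext (fun t => ?_) fun t => ?_
    · show φ A * M k (up t) * (φ A)⁻¹ = M l (up t)
      rw [← S.upSys.psi_single_diag k t, S.act_up A (by simp [Matrix.IsSymm]), h1, S.upSys.psi_single_diag]
    · show φ A * M k (low t) * (φ A)⁻¹ = M l (low t)
      rw [← S.lowSys.psi_single_diag k t, S.act_low A (by simp [Matrix.IsSymm]), h2, S.lowSys.psi_single_diag]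
  exact DFunLike.congr_fun this z

end CfsgLib.SpPres
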