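import Cfsg.Agent.Lib.KnownB.SpPres.Roots
import Cfsg.Agent.Lib.KnownB.SpPres.Sys
import Cfsg.Agent.Lib.KnownB.SpPres.BN

/-!
# The root groups of a symplectic system and their images
-/

set_option autoImplicit false
set_option linter.unusedSectionVars false

open Matrix CfsgLib.Perm.Quad.SL2 CfsgLib.SL2Pres CfsgLib.SLPres CfsgLib.Classical
open scoped commutatorElement

namespace CfsgLib.SpPres

variable {F : Type*} [Field F] {m : ℕ} {P : Type*} [Group P]

/-- The symmetric matrix of a pair of coordinates. -/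
def pairM (i j : Fin m) (t : F) : Matrix (Fin m) (Fin m) F :=
  if i = j then Matrix.single i i t else Matrix.single i j t + Matrix.single j i t

theorem pairM_symm (i j : Fin m) (t : F) : (pairM i j t).IsSymm := by
  unfold pairM
  split_ifs with h
  · simp [Matrix.IsSymm]
  · simp [Matrix.IsSymm, add_comm]

theorem pairM_comm (i j : Fin m) (t : F) : pairM i j t = pairM j i t := by
  unfold pairM
  by_cases h : i = j
  · subst h; rfl
  · rw [if_neg h, if_neg (Ne.symm h), add_comm]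

theorem pairM_add (i j : Fin m) (t s : F) : pairM i j (t + s) = pairM i j t + pairM i j s := by
  unfold pairM
  split_ifs
  · rw [Matrix.single_add]
  · rw [Matrix.single_add, Matrix.single_add]; abel

theorem congr'_pairM {A : Matrix (Fin m) (Fin m) F} {σ : Equiv.Perm (Fin m)} {sg : Fin m → F}
    (h : ∀ a b c, congr' A (Matrix.single a b c) = Matrix.single (σ a) (σ b) (sg a * sg b * c)) (i j : Fin m)
    (t : F) : congr' A (pairM i j t) = pairM (σ i) (σ j) (sg i * sg j * t) := by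
  unfold pairM
  by_cases hij : i = j
  · subst hij; rw [if_pos rfl, if_pos rfl, h]
  · rw [if_neg hij, if_neg (σ.injective.ne hij), congr'_add, h, h, mul_comm (sg j)]

variable {w : F} {hw : w ≠ 0} {M : Fin m → SL F →* P} {φ : SpecialLinearGroup (Fin m) F →* P}
  (S : SpSys hw M φ)

/-- The root element of two signed coordinates. -/
def SpSys.rX : Sgn m → Sgn m → F → P
  | (i, true), (j, true) => fun t => S.upSys.psi (pairM i j t)
  | (i, false), (j, false) => fun t => S.lowSys.psi (pairM i j t)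
  | (i, true), (j, false) => fun t => yTr φ i j t
  | (i, false), (j, true) => fun t => yTr φ j i t

theorem SpSys.rX_symm (a b : Sgn m) : S.rX a b = S.rX b a := by
  obtain ⟨i, x⟩ := a
  obtain ⟨j, y⟩ := b
  cases x <;> cases y <;> funext t <;> simp only [SpSys.rX, pairM_comm]

/-- The root element of a root. -/
def SpSys.x (r : SpRoot m) : F → P := Sym2.lift ⟨S.rX, S.rX_symm⟩ r.1

theorem SpSys.x_mk (a b : Sgn m) (h : b ≠ flipB a) : S.x (mkRoot a b h) = S.rX a b := rfl

theorem SpSys.x_add (r : SpRoot m) (t s : F) : S.x r (t + s) = S.x r t * S.x r s := by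
  obtain ⟨⟨i, x⟩, ⟨j, y⟩, h, rfl⟩ := r.exists_mk
  simp [flipB] at h
  cases x <;> cases y <;> simp only [SpSys.x_mk, SpSys.rX]
  · rw [pairM_add, S.lowSys.psi_add]
  · exact ((yTr_preSt φ).add j i t s (by simpa using h)).symm
  · exact ((yTr_preSt φ).add i j t s (Ne.symm (by simpa using h))).symm
  · rw [pairM_add, S.upSys.psi_add]

/-- The torus. -/
def SpSys.tor : (Fin m → Fˣ) →* P :=
  MonoidHom.noncommPiCoprod (fun k => (M k).comp (MonoidHom.mk' (fun c : Fˣ => dg (c : F) c.ne_zero) fun a b => by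
      apply ext2 <;> simp [mul_apply2, dg_val, mul_comm]))
    fun a b hab s t => S.commM a b hab _ _

theorem SpSys.tor_single (k : Fin m) (c : Fˣ) : S.tor (Pi.mulSingle k c) = M k (dg (c : F) c.ne_zero) := by
  exact MonoidHom.noncommPiCoprod_mulSingle (N := fun _ : Fin m => Fˣ) _ k c

theorem SpSys.dg_mem (k : Fin m) (c : F) (hc : c ≠ 0) : M k (dg c hc) ∈ S.tor.range :=
  ⟨Pi.mulSingle k (Units.mk0 c hc), S.tor_single k _⟩

theorem SpSys.g_mem (k : Fin m) : M k (dSL hw) ∈ S.tor.range := by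
  have : dSL hw = dg w hw := by apply ext2 <;> simp [dSL_coe, dg_val]
  rw [this]; exact S.dg_mem k w hw

/-- A property of torus generators passes to the torus. -/
theorem SpSys.tor_induction {p : P → Prop} (h1 : p 1) (hmul : ∀ a b, p a → p b → p (a * b))
    (hg : ∀ k, p (M k (dSL hw))) : ∀ τ ∈ S.tor.range, p τ := by
  rintro _ ⟨c, rfl⟩
  rw [← Finset.univ_prod_mulSingle c]
  refine Finset.prod_induction _ (fun c => p (S.tor c)) (fun a b ha hb => by rw [map_mul]; exact hmul _ _ ha hb)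
    (by rw [map_one]; exact h1) fun k _ => ?_
  rw [S.tor_single]
  obtain ⟨e, he⟩ := S.hgen _ (c k).ne_zero
  have : dg ((c k : Fˣ) : F) (c k).ne_zero = dSL hw ^ e := by rw [dSL_pow_eq]; simp only [he]
  rw [this, map_pow]
  clear he this
  induction e with
  | zero => rw [pow_zero]; exact h1
  | succ e ih => rw [pow_succ]; exact hmul _ _ ih (hg k)

include S in
theorem SpSys.scale_y (k : Fin m) {i j : Fin m} (h : i ≠ j) (t : F) :
    ∃ t', M k (dSL hw) * yTr φ i j t * (M k (dSL hw))⁻¹ = yTr φ i j t' := by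
  by_cases hi : k = i
  · subst hi; exact ⟨_, S.scale₁ _ _ h t⟩
  by_cases hj : k = j
  · subst hj; exact ⟨_, S.scale₂ _ _ h t⟩
  exact ⟨t, mul_inv_eq_iff_eq_mul.2 (S.fixM k i j h hi hj _ t).eq⟩

variable [Finite F]

theorem SpSys.scale_psi_up (k i j : Fin m) (t : F) : ∃ t',
    M k (dSL hw) * S.upSys.psi (pairM i j t) * (M k (dSL hw))⁻¹ = S.upSys.psi (pairM i j t') := by
  by_cases hij : i = j
  · subst hij
    simp only [pairM, if_pos, SymSys.psi_single_diag]
    by_cases hk : k = i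
    · subst hk; exact ⟨_, S.upSys.gu k t⟩
    · exact ⟨t, mul_inv_eq_iff_eq_mul.2 (S.upSys.gu' k i t hk).eq⟩
  simp only [pairM, if_neg hij, S.upSys.psi_pair hij]
  by_cases hi : k = i
  · subst hi; exact ⟨_, S.upSys.gp_left hij t⟩
  by_cases hj : k = j
  · subst hj; exact ⟨_, S.upSys.gp_right hij t⟩
  exact ⟨t, mul_inv_eq_iff_eq_mul.2 (S.upSys.gp_other hij hi hj t).eq⟩

theorem SpSys.scale_psi_low (k i j : Fin m) (t : F) : ∃ t',
    M k (dSL hw) * S.lowSys.psi (pairM i j t) * (M k (dSL hw))⁻¹ = S.lowSys.psi (pairM i j t') := by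
  have key : ∀ (X Y : P), M k (dSL hw)⁻¹ * Y * (M k (dSL hw)⁻¹)⁻¹ = X → M k (dSL hw) * X * (M k (dSL hw))⁻¹ = Y := by
    intro X Y h
    rw [← h, map_inv]; group
  by_cases hij : i = j
  · subst hij
    simp only [pairM, if_pos, SymSys.psi_single_diag]
    by_cases hk : k = i
    · subst hk
      refine ⟨(w ^ 2)⁻¹ * t, key _ _ ?_⟩
      have := S.lowSys.gu k ((w ^ 2)⁻¹ * t)
      rwa [mul_inv_cancel_left₀ (pow_ne_zero 2 hw)] at this
    · exact ⟨t, key _ _ (mul_inv_eq_iff_eq_mul.2 (S.lowSys.gu' k i t hk).eq)⟩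
  simp only [pairM, if_neg hij, S.lowSys.psi_pair hij]
  by_cases hi : k = i
  · subst hi
    refine ⟨w⁻¹ * t, key _ _ ?_⟩
    have := S.lowSys.gp_left hij (w⁻¹ * t)
    rwa [mul_inv_cancel_left₀ hw] at this
  by_cases hj : k = j
  · subst hj
    refine ⟨w⁻¹ * t, key _ _ ?_⟩
    have := S.lowSys.gp_right hij (w⁻¹ * t)
    rwa [mul_inv_cancel_left₀ hw] at this
  exact ⟨t, key _ _ (mul_inv_eq_iff_eq_mul.2 (S.lowSys.gp_other hij hi hj t).eq)⟩

theorem SpSys.x_scale (k : Fin m) (r : SpRoot m) (t : F) :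
    ∃ t', M k (dSL hw) * S.x r t * (M k (dSL hw))⁻¹ = S.x r t' := by
  obtain ⟨⟨i, x⟩, ⟨j, y⟩, h, rfl⟩ := r.exists_mk
  simp [flipB] at h
  cases x <;> cases y <;> simp only [SpSys.x_mk, SpSys.rX]
  · exact S.scale_psi_low k i j t
  · exact S.scale_y k (by simpa using h) t
  · exact S.scale_y k (Ne.symm (by simpa using h)) t
  · exact S.scale_psi_up k i j t

theorem SpSys.T_conj : ∀ τ ∈ S.tor.range, ∀ r t, ∃ t', τ * S.x r t * τ⁻¹ = S.x r t' := by
  refine S.tor_induction (fun r t => ⟨t, by simp⟩) (fun a b ha hb r t => ?_) fun k r t => S.x_scale k r t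
  obtain ⟨t₁, h₁⟩ := hb r t
  obtain ⟨t₂, h₂⟩ := ha r t₁
  exact ⟨t₂, by rw [← h₂, ← h₁]; group⟩

/-- The two coordinates as an index. -/
def sgnIdx : Sgn m → Fin m ⊕ Fin m
  | (i, true) => .inl i
  | (i, false) => .inr i

theorem sgnIdx_injective : Function.Injective (sgnIdx (m := m)) := by
  rintro ⟨i, x⟩ ⟨j, y⟩ h
  cases x <;> cases y <;> simp [sgnIdx] at h <;> simp [h]

/-- The height of an index. -/
def idxHgt : Fin m ⊕ Fin m → ℤ
  | .inl i => hgt (i, true)
  | .inr i => hgt (i, false)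

theorem idxHgt_sgnIdx (a : Sgn m) : idxHgt (sgnIdx a) = hgt a := by
  obtain ⟨i, x⟩ := a; cases x <;> rfl

variable (π : P →* Matrix.symplecticGroup (Fin m) F) (hM : ∀ i z, π (M i z) = mEmb i z)
  (hφ : ∀ A, π (φ A) = leviHom A)

include hφ in
theorem SpSys.pi_y {i j : Fin m} (h : i ≠ j) (t : F) :
    π (yTr φ i j t) = leviHom (SpecialLinearGroup.transvection h t) := by
  rw [yTr_eq φ h, hφ]

include hM hφ in
theorem SpSys.pi_up {X : Matrix (Fin m) (Fin m) F} (hX : X.IsSymm) : (π (S.upSys.psi X)).1 = upBlk X := by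
  refine sym_induction (p := fun X => (π (S.upSys.psi X)).1 = upBlk X) ?_ (fun A B hA hB => ?_) (fun k c => ?_)
    (fun k l hkl c => ?_) hX
  · rw [SymSys.psi_zero, map_one]; simp [upBlk, fromBlocks_one]
  · rw [SymSys.psi_add, map_mul, upBlk_add, ← hA, ← hB]; rfl
  · rw [SymSys.psi_single_diag, hM, mEmb_up]
  · rw [SymSys.psi_pair _ hkl, mixY, map_mul, map_mul, map_inv, hM, SpSys.pi_y (φ := φ) π hφ hkl, neg_one_mul,
      mix_up_val hkl]

include hM hφ in
theorem SpSys.pi_low {X : Matrix (Fin m) (Fin m) F} (hX : X.IsSymm) : (π (S.lowSys.psi X)).1 = lowBlk X := by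
  refine sym_induction (p := fun X => (π (S.lowSys.psi X)).1 = lowBlk X) ?_ (fun A B hA hB => ?_) (fun k c => ?_)
    (fun k l hkl c => ?_) hX
  · rw [SymSys.psi_zero, map_one]; simp [lowBlk, fromBlocks_one]
  · rw [SymSys.psi_add, map_mul, lowBlk_add, ← hA, ← hB]; rfl
  · rw [SymSys.psi_single_diag, hM, mEmb_low]
  · rw [SymSys.psi_pair _ hkl, mixY, map_mul, map_mul, map_inv, hM, SpSys.pi_y (φ := φ) π hφ hkl.symm, one_mul,
      mix_low_val hkl]

include hM hφ in
/-- The distinguished entry and the support of a root element. -/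
theorem SpSys.pi_x_entry {a b : Sgn m} (h : b ≠ flipB a) (t : F) :
    ((π (S.rX a b t)).1 (sgnIdx a) (sgnIdx (flipB b)) = 0 → t = 0) ∧
    ∀ p q, p ≠ q → (π (S.rX a b t)).1 p q ≠ 0 →
      (p = sgnIdx a ∧ q = sgnIdx (flipB b)) ∨ (p = sgnIdx b ∧ q = sgnIdx (flipB a)) := by
  obtain ⟨i, x⟩ := a
  obtain ⟨j, y⟩ := b
  simp [flipB] at h
  cases x <;> cases y <;> simp only [SpSys.rX]
  · rw [S.pi_low π hM hφ (pairM_symm i j t), lowBlk]
    refine ⟨?_, ?_⟩
    · simp [flipB, sgnIdx, pairM]; split_ifs with e <;> simp [e]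
    · rintro (p | p) (q | q) hpq <;> simp only [ne_eq, Sum.inl.injEq, Sum.inr.injEq] at hpq <;>
        simp [flipB, sgnIdx, pairM, Matrix.one_apply, Matrix.fromBlocks, hpq] <;>
        split_ifs with e <;> simp [Matrix.single_apply] <;> grind
  · have hij : j ≠ i := by simpa using h
    rw [SpSys.pi_y (φ := φ) π hφ hij, leviHom_transvection]
    refine ⟨?_, ?_⟩
    · simp [flipB, sgnIdx, Matrix.transvection, Matrix.one_apply, hij, hij.symm]
    · rintro (p | p) (q | q) hpq <;> simp only [ne_eq, Sum.inl.injEq, Sum.inr.injEq] at hpq <;>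
        simp [flipB, sgnIdx, Matrix.transvection, Matrix.one_apply, Matrix.fromBlocks, hpq, Matrix.single_apply] <;>
        grind
  · have hij : i ≠ j := Ne.symm (by simpa using h)
    rw [SpSys.pi_y (φ := φ) π hφ hij, leviHom_transvection]
    refine ⟨?_, ?_⟩
    · simp [flipB, sgnIdx, Matrix.transvection, Matrix.one_apply, hij, hij.symm]
    · rintro (p | p) (q | q) hpq <;> simp only [ne_eq, Sum.inl.injEq, Sum.inr.injEq] at hpq <;>
        simp [flipB, sgnIdx, Matrix.transvection, Matrix.one_apply, Matrix.fromBlocks, hpq, Matrix.single_apply] <;>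
        grind
  · rw [S.pi_up π hM hφ (pairM_symm i j t), upBlk]
    refine ⟨?_, ?_⟩
    · simp [flipB, sgnIdx, pairM]; split_ifs with e <;> simp [e]
    · rintro (p | p) (q | q) hpq <;> simp only [ne_eq, Sum.inl.injEq, Sum.inr.injEq] at hpq <;>
        simp [flipB, sgnIdx, pairM, Matrix.one_apply, Matrix.fromBlocks, hpq] <;>
        split_ifs with e <;> simp [Matrix.single_apply] <;> grind

end CfsgLib.SpPres
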