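import Cfsg.Agent.Lib.KnownB.SpPres.Sys

/-!
# A symplectic system from relations at the unit parameters
-/

set_option autoImplicit false
set_option linter.unusedSectionVars false

open Matrix CfsgLib.Perm.Quad.SL2 CfsgLib.SL2Pres CfsgLib.SLPres CfsgLib.Classical
open scoped commutatorElement

namespace CfsgLib.SpPres

variable {F : Type*} [Field F] {m : ℕ} {P : Type*} [Group P]

/-- The relations on an ordered pair of coordinates, at the unit parameters. -/
structure PairRel {w : F} (hw : w ≠ 0) (M : Fin m → SL F →* P) (φ : SpecialLinearGroup (Fin m) F →* P)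
    (i j : Fin m) : Prop where
  upY : Commute (M i (up 1)) (yTr φ i j 1)
  lowY : Commute (M j (low 1)) (yTr φ i j 1)
  scale : M i (dSL hw) * yTr φ i j 1 * (M i (dSL hw))⁻¹ = yTr φ i j w
  torus : φ (emb2 i j (dSL hw)) = M i (dSL hw) * (M j (dSL hw))⁻¹
  baseUp : ⁅yTr φ j i 1, M i (up 1)⁆ = mixY (-1) (yTr φ) (fun k => M k jSL) i j 1 * M j (up 1)
  symUp : mixY (-1) (yTr φ) (fun k => M k jSL) i j 1 = mixY (-1) (yTr φ) (fun k => M k jSL) j i 1
  baseLow : ⁅yTr φ i j (-1), M i (low 1)⁆ =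
    mixY 1 (fun a b t => yTr φ b a (-t)) (fun k => M k jSL) i j 1 * M j (low 1)
  symLow : mixY 1 (fun a b t => yTr φ b a (-t)) (fun k => M k jSL) i j 1 =
    mixY 1 (fun a b t => yTr φ b a (-t)) (fun k => M k jSL) j i 1

variable [Fintype F]

/-- Two additive families commute everywhere when they do at a point and scale independently. -/
theorem commute_spread {w : F} (hgen : ∀ x : F, x ≠ 0 → ∃ e : ℕ, w ^ e = x) (a b : F → P)
    (ha : ∀ s t, a (s + t) = a s * a t) (hb : ∀ s t, b (s + t) = b s * b t) (g h : P)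
    (ga : ∀ s, g * a s * g⁻¹ = a (w ^ 2 * s)) (gb : ∀ t, g * b t * g⁻¹ = b (w * t))
    (hga : ∀ s, h * a s * h⁻¹ = a s) (hgb : ∀ t, h * b t * h⁻¹ = b (w⁻¹ * t))
    (h11 : Commute (a 1) (b 1)) : ∀ s t, Commute (a s) (b t) := by
  have a0 : a 0 = 1 := by have := ha 0 0; rwa [add_zero, left_eq_mul] at this
  have b0 : b 0 = 1 := by have := hb 0 0; rwa [add_zero, left_eq_mul] at this
  by_cases hw0 : w = 0
  · have hF : ∀ x : F, x = 0 ∨ x = 1 := fun x => by
      by_cases hx : x = 0
      · exact Or.inl hx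
      · obtain ⟨e, rfl⟩ := hgen x hx
        cases e with
        | zero => exact Or.inr (pow_zero w)
        | succ e => exact Or.inl (by rw [hw0, zero_pow (Nat.succ_ne_zero e)])
    intro s t
    rcases hF s with rfl | rfl
    · rw [a0]; exact Commute.one_left _
    rcases hF t with rfl | rfl
    · rw [b0]; exact Commute.one_right _
    exact h11
  have hstep : ∀ s, (∀ t, Commute (a s) (b t)) → ∀ t, Commute (a (w ^ 2 * s)) (b t) := fun s hs t => by
    have := (hs (w⁻¹ * t)).map (MulAut.conj g)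
    simpa only [MulAut.conj_apply, ga, gb, mul_inv_cancel_left₀ hw0] using this
  have h1 : ∀ t, Commute (a 1) (b t) := by
    intro t
    by_cases ht : t = 0
    · rw [ht, b0]; exact Commute.one_right _
    have hdown : ∀ e : ℕ, Commute (a 1) (b (w⁻¹ ^ e)) := by
      intro e
      induction e with
      | zero => rw [pow_zero]; exact h11
      | succ e ih =>
        have := ih.map (MulAut.conj h)
        simpa only [MulAut.conj_apply, hga, hgb, pow_succ'] using this
    obtain ⟨e, he⟩ := hgen t⁻¹ (inv_ne_zero ht)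
    have := hdown e
    rwa [inv_pow, he, inv_inv] at this
  have hsq : ∀ x : F, ∀ t, Commute (a (x ^ 2)) (b t) := by
    intro x t
    by_cases hx : x = 0
    · subst hx; rw [show (0 : F) ^ 2 = 0 by ring, a0]; exact Commute.one_left _
    obtain ⟨e, rfl⟩ := hgen x hx
    induction e generalizing t with
    | zero => simpa using h1 t
    | succ e ih =>
      rw [show (w ^ (e + 1)) ^ 2 = w ^ 2 * (w ^ e) ^ 2 by ring]
      exact hstep _ (fun t => ih t (pow_ne_zero e hw0)) t
  intro s t
  obtain ⟨p, q, rfl⟩ := exists_sq_sub s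
  have e : a (p ^ 2 - q ^ 2) = a (p ^ 2) * (a (q ^ 2))⁻¹ := by
    rw [eq_mul_inv_iff_mul_eq, ← ha, sub_add_cancel]
  rw [e]
  exact (hsq p t).mul_left (hsq q t).inv_left

variable {w : F} {hw : w ≠ 0} {M : Fin m → SL F →* P} {φ : SpecialLinearGroup (Fin m) F →* P}

theorem yTr_add (φ : SpecialLinearGroup (Fin m) F →* P) {i j : Fin m} (h : i ≠ j) (t u : F) :
    yTr φ i j (t + u) = yTr φ i j t * yTr φ i j u := ((yTr_preSt φ).add i j t u h).symm

theorem scale_first (hgen : ∀ x : F, x ≠ 0 → ∃ e : ℕ, w ^ e = x)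
    (hcomm : ∀ i j, i ≠ j → ∀ z z', Commute (M i z) (M j z')) {i j : Fin m} (h : i ≠ j)
    (R : PairRel hw M φ i j) (t : F) :
    M i (dSL hw) * yTr φ i j t * (M i (dSL hw))⁻¹ = yTr φ i j (w * t) := by
  let f : Multiplicative F →* P :=
    MonoidHom.mk' (fun t => yTr φ i j t.toAdd) fun a b => yTr_add φ h _ _
  have hc : Commute (M i (dSL hw)) (φ (emb2 i j (dSL hw))) := by
    rw [R.torus]
    exact (Commute.refl _).mul_right (hcomm i j h _ _).inv_right
  have hh : ∀ t, φ (emb2 i j (dSL hw)) * f (Multiplicative.ofAdd t) * (φ (emb2 i j (dSL hw)))⁻¹ =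
      f (Multiplicative.ofAdd (w ^ 2 * t)) := fun t => by
    show _ * yTr φ i j t * _ = yTr φ i j (w ^ 2 * t)
    rw [yTr_eq φ h, yTr_eq φ h, ← emb2_up h, ← emb2_up h, ← map_inv, ← map_mul, ← map_mul, ← map_inv, ← map_mul,
      ← map_mul, dSL_conj_up]
  exact scale_all hgen f hc hh (by show _ * yTr φ i j 1 * _ = _; rw [R.scale]; rfl) t

theorem scale_second (hgen : ∀ x : F, x ≠ 0 → ∃ e : ℕ, w ^ e = x)
    (hcomm : ∀ i j, i ≠ j → ∀ z z', Commute (M i z) (M j z')) {i j : Fin m} (h : i ≠ j)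
    (R : PairRel hw M φ i j) (t : F) :
    M j (dSL hw) * yTr φ i j t * (M j (dSL hw))⁻¹ = yTr φ i j (w⁻¹ * t) := by
  have e : φ (emb2 i j (dSL hw)) * yTr φ i j (w⁻¹ * (w⁻¹ * t)) * (φ (emb2 i j (dSL hw)))⁻¹ = yTr φ i j t := by
    rw [yTr_eq φ h, yTr_eq φ h, ← emb2_up h, ← emb2_up h, ← map_inv, ← map_mul, ← map_mul, ← map_inv, ← map_mul,
      ← map_mul, dSL_conj_up]
    congr 3
    field_simp
  have e1 := scale_first hgen hcomm h R (w⁻¹ * (w⁻¹ * t))
  rw [mul_inv_cancel_left₀ hw] at e1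
  rw [R.torus, (hcomm i j h (dSL hw) (dSL hw)).inv_right.eq] at e
  rw [← e, ← e1]
  group

/-- A symplectic system from the relations at unit parameters. -/
theorem spSys_of_pairs (hgen : ∀ x : F, x ≠ 0 → ∃ e : ℕ, w ^ e = x)
    (hcomm : ∀ i j, i ≠ j → ∀ z z', Commute (M i z) (M j z'))
    (hfix : ∀ k i j, i ≠ j → k ≠ i → k ≠ j → ∀ z t, Commute (M k z) (yTr φ i j t))
    (hR : ∀ i j, i ≠ j → PairRel hw M φ i j)
    (hP : Subgroup.closure ((φ.range : Set P) ∪ ⋃ i, ((M i).range : Set P)) = ⊤) : SpSys hw M φ where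
  hgen := hgen
  commM := hcomm
  fixM := hfix
  upY i j h := by
    refine commute_spread hgen (fun s => M i (up s)) (yTr φ i j) (fun s t => by rw [← map_mul, up_add])
      (yTr_add φ h) (M i (dSL hw)) (M j (dSL hw)) (fun s => ?_) (scale_first hgen hcomm h (hR i j h)) (fun s => ?_)
      (scale_second hgen hcomm h (hR i j h)) (hR i j h).upY
    · rw [← map_inv, ← map_mul, ← map_mul, dSL_conj_up]
    · exact mul_inv_eq_iff_eq_mul.2 (hcomm j i h.symm _ _).eq
  lowY i j h := by
    refine commute_spread hgen (fun s => M j (low s)) (yTr φ i j) (fun s t => by rw [← map_mul, low_add])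
      (yTr_add φ h) (M j (dSL hw))⁻¹ (M i (dSL hw))⁻¹ (fun s => ?_) (fun t => ?_) (fun s => ?_) (fun t => ?_)
      (hR i j h).lowY
    · rw [inv_inv, ← map_inv, ← map_mul, ← map_mul]
      congr 1
      have := dSL_conj_low hw (w ^ 2 * s)
      rw [mul_div_cancel_left₀ s (pow_ne_zero 2 hw)] at this
      rw [← this]
      group
    · have := scale_second hgen hcomm h (hR i j h) (w * t)
      rw [inv_mul_cancel_left₀ hw] at this
      conv_lhs => rw [← this]
      group
    · exact mul_inv_eq_iff_eq_mul.2 ((hcomm i j h _ _).inv_left).eq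
    · have := scale_first hgen hcomm h (hR i j h) (w⁻¹ * t)
      rw [mul_inv_cancel_left₀ hw] at this
      conv_lhs => rw [← this]
      group
  scale₁ i j h := scale_first hgen hcomm h (hR i j h)
  scale₂ i j h := scale_second hgen hcomm h (hR i j h)
  baseUp i j h := (hR i j h).baseUp
  symUp i j h := (hR i j h).symUp
  baseLow i j h := (hR i j h).baseLow
  symLow i j h := (hR i j h).symLow
  torus i j h := (hR i j h).torus
  gen := hP

end CfsgLib.SpPres
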