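import Cfsg.Agent.Lib.KnownA.StSLUniv

/-!
# A symmetric unipotent radical from long root elements and one formula

From root groups of a general linear group, long root groups `u` and representatives `n` of their
reflections we build a homomorphism from symmetric matrices, equivariant for congruence.
-/

set_option autoImplicit false
set_option linter.unusedSectionVars false

open Matrix CfsgLib.KnownA.StSL
open scoped commutatorElement

namespace CfsgLib.SpPres

variable {F : Type*} [Field F] {ι : Type*} [Fintype ι] [DecidableEq ι] {P : Type*} [Group P]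

/-- The root element of a mixed root. -/
def mixY (ε : F) (y : ι → ι → F → P) (n : ι → P) (i j : ι) (t : F) : P := n j * y i j (ε * t) * (n j)⁻¹

/-- The hypotheses. -/
structure SymSys (w ε : F) (y : ι → ι → F → P) (u : ι → F → P) (n g : ι → P) : Prop where
  pre : PreSt y
  hw : w ≠ 0
  hgen : ∀ x : F, x ≠ 0 → ∃ e : ℕ, w ^ e = x
  u_add : ∀ k t s, u k (t + s) = u k t * u k s
  uu : ∀ k l t s, k ≠ l → Commute (u k t) (u l s)
  un : ∀ k l t, k ≠ l → Commute (u k t) (n l)
  nn : ∀ k l, Commute (n k) (n l)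
  uy : ∀ k a b s t, a ≠ b → k ≠ b → Commute (u k s) (y a b t)
  ny : ∀ k a b t, a ≠ b → k ≠ a → k ≠ b → Commute (n k) (y a b t)
  gu : ∀ k t, g k * u k t * (g k)⁻¹ = u k (w ^ 2 * t)
  gu' : ∀ k l t, k ≠ l → Commute (g k) (u l t)
  gy₁ : ∀ a b t, a ≠ b → g a * y a b t * (g a)⁻¹ = y a b (w * t)
  gy₂ : ∀ a b t, a ≠ b → g b * y a b t * (g b)⁻¹ = y a b (w⁻¹ * t)
  gy₃ : ∀ k a b t, a ≠ b → k ≠ a → k ≠ b → Commute (g k) (y a b t)
  gn : ∀ k, n k * g k * (n k)⁻¹ = (g k)⁻¹
  gn' : ∀ k l, k ≠ l → Commute (g k) (n l)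
  base : ∀ i j, i ≠ j → ⁅y j i 1, u i 1⁆ = mixY ε y n i j 1 * u j 1
  symm₁ : ∀ i j, i ≠ j → mixY ε y n i j 1 = mixY ε y n j i 1

variable {w ε : F} {y : ι → ι → F → P} {u : ι → F → P} {n g : ι → P} (S : SymSys w ε y u n g)
include S

theorem SymSys.u_zero (k : ι) : u k 0 = 1 := by
  have := S.u_add k 0 0
  rwa [add_zero, left_eq_mul] at this

theorem SymSys.p_add {i j : ι} (h : i ≠ j) (t s : F) :
    mixY ε y n i j (t + s) = mixY ε y n i j t * mixY ε y n i j s := by
  simp only [mixY, mul_add, ← S.pre.add i j _ _ h]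
  group

theorem SymSys.p_zero {i j : ι} (h : i ≠ j) : mixY ε y n i j 0 = 1 := by
  have := S.p_add h 0 0
  rwa [add_zero, left_eq_mul] at this

theorem SymSys.gp_left {i j : ι} (h : i ≠ j) (t : F) :
    g i * mixY ε y n i j t * (g i)⁻¹ = mixY ε y n i j (w * t) := by
  have e := S.gn' i j h
  rw [mixY, mixY, show ε * (w * t) = w * (ε * t) by ring, ← S.gy₁ i j _ h]
  calc g i * (n j * y i j (ε * t) * (n j)⁻¹) * (g i)⁻¹ =
      (g i * n j) * y i j (ε * t) * ((g i) * n j)⁻¹ := by group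
    _ = (n j * g i) * y i j (ε * t) * (n j * g i)⁻¹ := by rw [e.eq]
    _ = _ := by group

theorem SymSys.gp_right {i j : ι} (h : i ≠ j) (t : F) :
    g j * mixY ε y n i j t * (g j)⁻¹ = mixY ε y n i j (w * t) := by
  have e : g j * n j = n j * (g j)⁻¹ := by
    have h1 := S.gn j
    rw [mul_inv_eq_iff_eq_mul] at h1
    rw [eq_mul_inv_iff_mul_eq, mul_assoc, h1, mul_inv_cancel_left]
  have e2 : (g j)⁻¹ * y i j (ε * t) * g j = y i j (w * (ε * t)) := by
    have := S.gy₂ i j (w * (ε * t)) h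
    rw [inv_mul_cancel_left₀ S.hw] at this
    rw [← this]
    group
  rw [mixY, mixY, show ε * (w * t) = w * (ε * t) by ring, ← e2]
  calc g j * (n j * y i j (ε * t) * (n j)⁻¹) * (g j)⁻¹ =
      (g j * n j) * y i j (ε * t) * ((g j) * n j)⁻¹ := by group
    _ = (n j * (g j)⁻¹) * y i j (ε * t) * (n j * (g j)⁻¹)⁻¹ := by rw [e]
    _ = _ := by group

theorem SymSys.gp_other {k i j : ι} (h : i ≠ j) (hi : k ≠ i) (hj : k ≠ j) (t : F) :
    Commute (g k) (mixY ε y n i j t) :=
  ((S.gn' k j hj).mul_right (S.gy₃ k i j _ h hi hj)).mul_right (S.gn' k j hj).inv_right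

theorem SymSys.gu_pow (k : ι) (e : ℕ) (t : F) : g k ^ e * u k t * (g k ^ e)⁻¹ = u k (w ^ (2 * e) * t) := by
  induction e with
  | zero => simp
  | succ e ih =>
    rw [show 2 * (e + 1) = 2 + 2 * e by ring, pow_add w, mul_assoc (w ^ 2), ← S.gu, ← ih, pow_succ']
    group

theorem SymSys.symm {i j : ι} (h : i ≠ j) (t : F) : mixY ε y n i j t = mixY ε y n j i t := by
  by_cases ht : t = 0
  · rw [ht, S.p_zero h, S.p_zero h.symm]
  obtain ⟨e, rfl⟩ := S.hgen t ht
  clear ht
  induction e with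
  | zero => simpa using S.symm₁ i j h
  | succ e ih => rw [pow_succ', ← S.gp_left h, ih, S.gp_right h.symm]

theorem SymSys.up (k : ι) {i j : ι} (h : i ≠ j) (s t : F) : Commute (u k s) (mixY ε y n i j t) := by
  have key : ∀ i j, i ≠ j → k ≠ j → Commute (u k s) (mixY ε y n i j t) := fun i j h hk =>
    ((S.un k j s hk).mul_right (S.uy k i j s _ h hk)).mul_right (S.un k j s hk).inv_right
  by_cases hk : k = j
  · subst hk; rw [S.symm h]; exact key _ _ h.symm h.symm
  · exact key _ _ h hk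

/-- The long root commutator formula. -/
theorem SymSys.formula [Finite F] {i j : ι} (h : i ≠ j) (t l : F) :
    ⁅y j i t, u i l⁆ = mixY ε y n i j (t * l) * u j (t ^ 2 * l) := by
  by_cases ht : t = 0
  · subst ht
    rw [S.pre.y_zero h.symm, zero_mul, show (0 : F) ^ 2 * l = 0 by ring, S.p_zero h, S.u_zero]
    simp [commutatorElement_def]
  -- squares
  have hsq : ∀ x : F, x ≠ 0 → ⁅y j i t, u i (x ^ 2)⁆ = mixY ε y n i j (t * x ^ 2) * u j (t ^ 2 * x ^ 2) := by
    have hconj : ∀ (c : P) (a b : P), c * ⁅a, b⁆ * c⁻¹ = ⁅c * a * c⁻¹, c * b * c⁻¹⁆ := fun c a b => by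
      simp only [commutatorElement_def]; group
    have hconjm : ∀ (c : P) (a b : P), c * (a * b) * c⁻¹ = (c * a * c⁻¹) * (c * b * c⁻¹) := fun c a b => by
      group
    have h1 : ∀ e : ℕ, ⁅y j i (w ^ e), u i 1⁆ = mixY ε y n i j (w ^ e) * u j (w ^ (2 * e)) := fun e => by
      induction e with
      | zero => simpa using S.base i j h
      | succ e ih =>
        have := congrArg (fun z => g j * z * (g j)⁻¹) ih
        simp only [hconj, hconjm, S.gy₁ j i _ h.symm, S.gp_right h, S.gu,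
          mul_inv_eq_iff_eq_mul.2 (S.gu' j i 1 h.symm).eq] at this
        rw [pow_succ', this]
        congr 2
        ring
    intro x hx
    obtain ⟨e, rfl⟩ := S.hgen x hx
    clear hx
    induction e with
    | zero =>
      obtain ⟨d, rfl⟩ := S.hgen t ht
      simpa [← pow_mul, mul_comm d 2] using h1 d
    | succ e ih =>
      have hgy : g i * (g j * y j i t * (g j)⁻¹) * (g i)⁻¹ = y j i t := by
        rw [S.gy₁ j i _ h.symm, S.gy₂ j i _ h.symm, inv_mul_cancel_left₀ S.hw]
      have hgu : g i * (g j * u i ((w ^ e) ^ 2) * (g j)⁻¹) * (g i)⁻¹ = u i ((w ^ (e + 1)) ^ 2) := by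
        rw [mul_inv_eq_iff_eq_mul.2 (S.gu' j i _ h.symm).eq, S.gu]
        congr 1; ring
      have hgp : ∀ a, g i * (g j * mixY ε y n i j a * (g j)⁻¹) * (g i)⁻¹ = mixY ε y n i j (w ^ 2 * a) := fun a => by
        rw [S.gp_right h, S.gp_left h]; congr 1; ring
      have hgu' : ∀ a, g i * (g j * u j a * (g j)⁻¹) * (g i)⁻¹ = u j (w ^ 2 * a) := fun a => by
        rw [S.gu, mul_inv_eq_iff_eq_mul.2 (S.gu' i j _ h).eq]
      have := congrArg (fun z => g i * (g j * z * (g j)⁻¹) * (g i)⁻¹) ih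
      have hm : ∀ c d a b : P, c * (d * (a * b) * d⁻¹) * c⁻¹ =
          (c * (d * a * d⁻¹) * c⁻¹) * (c * (d * b * d⁻¹) * c⁻¹) := fun c d a b => by group
      rw [hconj (g j), hconj (g i), hm, hgy, hgu, hgp, hgu'] at this
      rw [this]
      congr 2 <;> ring
  -- additivity
  let A : AddSubgroup F :=
    { carrier := {l | ⁅y j i t, u i l⁆ = mixY ε y n i j (t * l) * u j (t ^ 2 * l)}
      zero_mem' := by simp [S.u_zero, S.p_zero h, commutatorElement_def]
      add_mem' := fun {a b} (ha : _ = _) (hb : _ = _) => by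
        show ⁅y j i t, u i (a + b)⁆ = _
        have e : ⁅y j i t, u i (a + b)⁆ = ⁅y j i t, u i a⁆ * (u i a * ⁅y j i t, u i b⁆ * (u i a)⁻¹) := by
          rw [S.u_add]; simp only [commutatorElement_def]; group
        rw [e, ha, hb, ((S.up i h a _).mul_right (S.uu i j a _ h)).eq, mul_inv_cancel_right,
          mul_add, mul_add, S.p_add h, S.u_add]
        have := (S.up j h (t ^ 2 * a) (t * b)).eq
        rw [mul_assoc, ← mul_assoc (u j _), this]
        group
      neg_mem' := fun {a} (ha : _ = _) => by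
        show ⁅y j i t, u i (-a)⁆ = _
        have e : ⁅y j i t, u i a⁆ * (u i a * ⁅y j i t, u i (-a)⁆ * (u i a)⁻¹) = 1 := by
          have h0 : u i a * u i (-a) = 1 := by rw [← S.u_add, add_neg_cancel, S.u_zero]
          rw [show u i (-a) = (u i a)⁻¹ from eq_inv_of_mul_eq_one_right h0]
          simp only [commutatorElement_def]; group
        have hc := ((S.up i h a (t * a)).mul_right (S.uu i j a (t ^ 2 * a) h)).inv_right
        rw [ha, mul_eq_one_iff_inv_eq] at e
        rw [show ⁅y j i t, u i (-a)⁆ = (u i a)⁻¹ * (mixY ε y n i j (t * a) * u j (t ^ 2 * a))⁻¹ * u i a by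
          rw [e]; group, mul_assoc, ← hc.eq, inv_mul_cancel_left, _root_.mul_inv_rev]
        have h1 : mixY ε y n i j (t * -a) = (mixY ε y n i j (t * a))⁻¹ := eq_inv_of_mul_eq_one_right (by
          rw [← S.p_add h, ← mul_add, add_neg_cancel, mul_zero, S.p_zero h])
        have h2 : u j (t ^ 2 * -a) = (u j (t ^ 2 * a))⁻¹ := eq_inv_of_mul_eq_one_right (by
          rw [← S.u_add, ← mul_add, add_neg_cancel, mul_zero, S.u_zero])
        rw [h1, h2, ← _root_.mul_inv_rev, ← _root_.mul_inv_rev, (S.up j h _ _).eq] }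
  have hsqA : ∀ x : F, x ^ 2 ∈ A := fun x => by
    by_cases hx : x = 0
    · subst hx; simp
    · exact hsq x hx
  show l ∈ A
  by_cases h2 : ringChar F = 2
  · obtain ⟨x, rfl⟩ := FiniteField.isSquare_of_char_two h2 l
    rw [← pow_two]; exact hsqA x
  · have h2' : (2 : F) ≠ 0 := Ring.two_ne_zero h2
    rw [show l = ((l + 1) / 2) ^ 2 - ((l - 1) / 2) ^ 2 by field_simp; ring]
    exact sub_mem (hsqA _) (hsqA _)

theorem SymSys.pp {a b c d : ι} (hab : a ≠ b) (hcd : c ≠ d) (t s : F) :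
    Commute (mixY ε y n a b t) (mixY ε y n c d s) := by
  have key : ∀ a b c d t s, a ≠ b → c ≠ d → b ≠ c → b ≠ d → d ≠ a →
      Commute (mixY ε y n a b t) (mixY ε y n c d s) := fun a b c d t s hab hcd hbc hbd hda => by
    have e1 : mixY ε y n a b t = (n b * n d) * y a b (ε * t) * (n b * n d)⁻¹ := by
      rw [_root_.mul_inv_rev, mul_assoc (n b), (S.ny d a b _ hab hda hbd.symm).eq, mixY]
      group
    have e2 : mixY ε y n c d s = (n b * n d) * y c d (ε * s) * (n b * n d)⁻¹ := by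
      rw [(S.nn b d).eq, _root_.mul_inv_rev, mul_assoc (n d), (S.ny b c d _ hcd hbc hbd).eq, mixY]
      group
    rw [e1, e2]
    exact (S.pre.comm a b c d _ _ hab hcd hda.symm hbc).map (MulAut.conj (n b * n d))
  by_cases hsame : (a = c ∧ b = d) ∨ (a = d ∧ b = c)
  · rcases hsame with ⟨rfl, rfl⟩ | ⟨rfl, rfl⟩
    · show _ * _ = _ * _; rw [← S.p_add hab, ← S.p_add hab, add_comm]
    · rw [S.symm hcd]; show _ * _ = _ * _; rw [← S.p_add hab, ← S.p_add hab, add_comm]
  rw [not_or, not_and, not_and] at hsame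
  by_cases hac : a = c
  · subst hac; exact key _ _ _ _ _ _ hab hcd hab.symm (hsame.1 rfl) hcd.symm
  by_cases had : a = d
  · subst had; rw [S.symm hcd]; exact key _ _ _ _ _ _ hab hcd.symm hab.symm (hsame.2 rfl) (Ne.symm hac)
  by_cases hbc : b = c
  · subst hbc; rw [S.symm hab]; exact key _ _ _ _ _ _ hab.symm hcd hab had hcd.symm
  by_cases hbd : b = d
  · subst hbd; rw [S.symm hab, S.symm hcd]
    exact key _ _ _ _ _ _ hab.symm hcd.symm hab hac hcd
  exact key _ _ _ _ _ _ hab hcd hbc hbd (Ne.symm had)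

theorem SymSys.conj_p [Finite F] {a b : ι} (h : a ≠ b) (s c : F) :
    y a b s * mixY ε y n a b c * (y a b s)⁻¹ = mixY ε y n a b c * u a (2 * s * c) := by
  have key : ∀ r, y a b r * u b 1 * (y a b r)⁻¹ = mixY ε y n a b r * u a (r ^ 2) * u b 1 := fun r => by
    have := S.formula h.symm r 1
    rw [commutatorElement_def, mul_inv_eq_iff_eq_mul, mul_one, mul_one, S.symm h.symm] at this
    exact this
  have h1 := key (s + c)
  rw [← S.pre.add a b s c h] at h1
  have h2 : y a b s * u a (c ^ 2) * (y a b s)⁻¹ = u a (c ^ 2) :=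
    mul_inv_eq_iff_eq_mul.2 (S.uy a a b _ _ h h).eq.symm
  have h3 : y a b s * y a b c * u b 1 * (y a b s * y a b c)⁻¹ =
      (y a b s * mixY ε y n a b c * (y a b s)⁻¹) * (y a b s * u a (c ^ 2) * (y a b s)⁻¹) *
        (y a b s * u b 1 * (y a b s)⁻¹) := by
    calc _ = y a b s * (y a b c * u b 1 * (y a b c)⁻¹) * (y a b s)⁻¹ := by group
      _ = _ := by rw [key c]; group
  rw [h3, h2, key s] at h1
  set X := y a b s * mixY ε y n a b c * (y a b s)⁻¹
  simp only [← mul_assoc, mul_left_inj] at h1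
  have hL : X * (mixY ε y n a b s * u a (c ^ 2 + s ^ 2)) = X * u a (c ^ 2) * mixY ε y n a b s * u a (s ^ 2) := by
    rw [mul_assoc X, (S.up a h (c ^ 2) s).eq, S.u_add]
    simp only [mul_assoc]
  have hR : mixY ε y n a b c * u a (2 * s * c) * (mixY ε y n a b s * u a (c ^ 2 + s ^ 2)) =
      mixY ε y n a b (s + c) * u a ((s + c) ^ 2) := by
    rw [mul_assoc, ← mul_assoc (u a _), (S.up a h _ _).eq, mul_assoc (mixY ε y n a b s), ← S.u_add,
      ← mul_assoc, ← S.p_add h, add_comm c s]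
    congr 2
    ring
  exact mul_right_cancel (hL.trans (h1.trans hR.symm))

end CfsgLib.SpPres
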